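import Cfsg.Agent.H578.RC.One
import Cfsg.Agent.H64.RC.Refl
import Cfsg.Agent.H297.RC.LR

/-!
# S3510, row F, box E7 (helper578)
-/

set_option autoImplicit false
open Cfsg

namespace Cfsg.Agent.H578.RC

open QuadraticMap MulAction
open Cfsg.Agent.LieClassical Cfsg.Agent.LieClassical.OrthCore Cfsg.Agent.LieClassical.OrthTrans
open Cfsg.Agent.LieClassical.OrthSimple Cfsg.Agent.ClassicalGeometry.OrthSemi
open Cfsg.Agent.ClassicalGeometry.OrthAut1 Cfsg.Agent.H106.RC Cfsg.Agent.H93.RC Cfsg.Agent.H138.RC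

variable {F V G Ω : Type} [Field F] [Finite F] [AddCommGroup V] [Module F V] [FiniteDimensional F V]
  [Group G] [Finite G] [MulAction G Ω] [Nonempty Ω]
  {Q : QuadraticForm F V} {N : Subgroup G} {ρ : ↥(E Q) →* G}

/-- **box E7**, with an invariant nondegenerate subspace `D` -/
theorem E7_aux [CharP F 2] (hLR : LR Q Ω ρ 2) (hG : Good Q) (hE : Env G Ω N) (hρ : Rep Q N ρ)
    (hIH : IH (Nat.card (P Q))) {ι : Type} [Finite ι] {x : ι → G} {M : ι → Gam Q} {r : ι → ℕ}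
    (hl : ∀ i, Lf ρ (x i) (M i)) (hx : PF x r) (hcov : Cov Ω x)
    (h8 : 8 ≤ Module.finrank F V)
    (T : ι → V ≃ₗ[F] V) (hTO : ∀ i, T i ∈ O Q) (hTM : ∀ i v, (M i).1 v = T i v)
    (hTc : ∀ i j, T i * T j = T j * T i)
    (D : Submodule F V) (hD0 : D ≠ ⊥) (hD1 : D ≠ ⊤) (hDn : Nondeg (Q.comp D.subtype))
    (hDi : ∀ i, ∀ v ∈ D, T i v ∈ D)
    (i₀ : ι) (hi₀ : r i₀ = 2) : False := by
  classical
  have hIH' : IH (Nat.card N) := by
    rw [Cfsg.Agent.H64.RC.Refl.card_N hρ] at hIH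
    exact hIH
  have h : FC Q Ω N ρ x M T r := ⟨⟨hG, hE, hρ, hLR, hIH', hx.prime, hx.pow, hx.ne, hx.comm, hcov, hl, hTM,
    fun i v => by rw [one_mul]; exact hTO i v, hTc⟩, hTO⟩
  have hinj := hx.inj
  have hQ := h.nondeg
  have hodd : ∀ i, i ≠ i₀ → r i ≠ 2 := fun i hi h3 => hi (hinj (h3.trans hi₀.symm))
  have hrefl : ∀ (a : V) (ha : Q a ≠ 0), T i₀ = refl Q a ha → False := by
    intro a ha hu
    refine Cfsg.Agent.H64.RC.box_refl_fix hG h8 hE hρ hIH hx hcov hl ?_ ?_ i₀ a ha ?_ ?_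
    · intro i b v
      rw [hTM, hTM, map_smul]
    · intro i v
      rw [hTM]; exact hTO i v
    · intro v
      rw [hTM, hu, refl_apply]
    · intro i
      rw [hTM]
      -- `T i a = a`
      have ha0 : a ≠ 0 := by rintro rfl; exact ha (QuadraticMap.map_zero Q)
      obtain ⟨b, hb⟩ := hQ.exists_polar_eq ha0 (Q a)
      have e1 : refl Q a ha b = b - a := by rw [refl_apply, hb, inv_mul_cancel₀ ha, one_smul]
      have e2 : T i (T i₀ b) = T i₀ (T i b) := h.cm i i₀ b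
      rw [hu, e1, map_sub, refl_apply] at e2
      have e3 : T i a = ((Q a)⁻¹ * polar Q a (T i b)) • a := by
        have := congrArg (fun t => T i b - t) e2
        simpa using this
      obtain ⟨s, hs⟩ : ∃ s, s = (Q a)⁻¹ * polar Q a (T i b) := ⟨_, rfl⟩
      rw [← hs] at e3
      have e4 := hTO i a
      rw [e3, QuadraticMap.map_smul, smul_eq_mul] at e4
      have e5 : (s * s - 1) * Q a = 0 := by rw [sub_mul, e4, one_mul, sub_self]
      have e6 : s * s - 1 = 0 := (mul_eq_zero.1 e5).resolve_right ha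
      have e7 : (s - 1) * (s - 1) = 0 := by
        have two : (2 : F) = 0 := two0
        linear_combination e6 + (1 - s) * two
      have e8 : s = 1 := sub_eq_zero.1 (mul_self_eq_zero.1 e7)
      rw [e3, e8, one_smul]
  by_cases hI : ∃ j, j ≠ i₀ ∧ Nt (T i₀) (Cm (T j))
  · obtain ⟨j, hj, hnt⟩ := hI
    have hoj := h.odd (hodd j hj)
    have hfC : Fpf (T j) (Cm (T j)) := by
      intro v hv hv1
      have h1 : v ∈ Cf (T j) ⊓ Cm (T j) := ⟨mem_Cf.2 hv1, hv⟩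
      rw [Cf_inf_Cm hoj (h.pow_one j)] at h1
      exact h1
    by_cases htop : Cm (T j) = ⊤
    · have hfV : ∀ W : Submodule F V, Fpf (T j) W := fun W v _ hv1 => hfC v (htop ▸ Submodule.mem_top) hv1
      by_cases hDnt : Nt (T i₀) D
      · exact h.caseI hinj i₀ hi₀ h8 hDn hD1 hDi hj (hfV _) hDnt (Or.inr (hfV _))
      · refine h.caseI hinj i₀ hi₀ h8 (nondeg_pp hQ hDn) ?_ (fun i => inv_pp (h.iso i) (hDi i)) hj (hfV _)
          (h.nt_pp hDn hDnt) (Or.inr (hfV _))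
        intro h0
        apply hD0
        rw [← pp_pp hQ D, h0, eq_bot_iff]
        intro v hv
        exact (Submodule.mem_bot F).2 (hQ v fun y => by rw [polar_comm]; exact hv y Submodule.mem_top)
    · refine h.caseI hinj i₀ hi₀ h8 (nondeg_Cm hQ (h.iso j) hoj (h.pow_one j)) htop (fun i => Cm_inv (h.cm i j)) hj
        hfC hnt (Or.inl ?_)
      intro v hv
      rw [Cm_eq hQ (h.iso j), mem_Cf] at hv
      exact hv
  · push Not at hI
    exact h.caseII hinj i₀ hi₀ h8 hI hrefl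

/-- `D` is preserved by everything commuting with the `T i` (copy of the definition of the stub file) -/
def BicInv {ι : Type} (T : ι → V ≃ₗ[F] V) (D : Submodule F V) : Prop :=
  ∀ f : V →ₗ[F] V, (∀ i v, f (T i v) = T i (f v)) → ∀ v ∈ D, f v ∈ D

/-- **BOX E7** (`p = 2`, `x i₀` an involution), stub form. -/
theorem box_E7_of [CharP F 2] (hLR : LR Q Ω ρ 2) (hG : Good Q) (hE : Env G Ω N) (hρ : Rep Q N ρ)
    (hIH : IH (Nat.card (P Q))) {ι : Type} [Finite ι] {x : ι → G} {M : ι → Gam Q} {r : ι → ℕ}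
    (hl : ∀ i, Lf ρ (x i) (M i)) (hx : PF x r) (hcov : Cov Ω x)
    (h8 : 8 ≤ Module.finrank F V) (_heven : Even (Module.finrank F V))
    (T : ι → V ≃ₗ[F] V) (hTO : ∀ i, T i ∈ O Q) (hTM : ∀ i v, (M i).1 v = T i v)
    (_hTr : ∀ i, T i ^ r i = 1) (hTc : ∀ i j, T i * T j = T j * T i)
    (hD : ∃ D : Submodule F V, D ≠ ⊥ ∧ D ≠ ⊤ ∧ Nondeg (Q.comp D.subtype) ∧
      BicInv (fun i : {i : ι // r i ≠ 2} => T i) D)
    (i₀ : ι) (hi₀ : r i₀ = 2) : False := by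
  obtain ⟨D, hD0, hD1, hDn, hDi⟩ := hD
  exact E7_aux hLR hG hE hρ hIH hl hx hcov h8 T hTO hTM hTc D hD0 hD1 hDn
    (fun i v hv => hDi (T i : V →ₗ[F] V) (fun j w => LinearEquiv.congr_fun (hTc i j) w) v hv) i₀ hi₀

/-- the long root rule (box F1) -/
theorem lr_two [CharP F 2] (hG : Good Q) (hE : Env G Ω N) (hρ : Rep Q N ρ) : LR Q Ω ρ 2 := by
  intro κ _ y L s h1 h2 h3 h4 h5 h6 u w hu hw huw hu0 hind hL hcov
  exact Cfsg.Agent.H297.RC.box_LR hG hE hρ h1 h2 h3 h4 h5 h6 hu hw huw hu0 hind hL hcov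

/-- **BOX E7** (`p = 2`, `x i₀` an involution), stub form, no further input. -/
theorem box_E7 [CharP F 2] (hG : Good Q) (hE : Env G Ω N) (hρ : Rep Q N ρ)
    (hIH : IH (Nat.card (P Q))) {ι : Type} [Finite ι] {x : ι → G} {M : ι → Gam Q} {r : ι → ℕ}
    (hl : ∀ i, Lf ρ (x i) (M i)) (hx : PF x r) (hcov : Cov Ω x)
    (h8 : 8 ≤ Module.finrank F V) (heven : Even (Module.finrank F V))
    (T : ι → V ≃ₗ[F] V) (hTO : ∀ i, T i ∈ O Q) (hTM : ∀ i v, (M i).1 v = T i v)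
    (hTr : ∀ i, T i ^ r i = 1) (hTc : ∀ i j, T i * T j = T j * T i)
    (hD : ∃ D : Submodule F V, D ≠ ⊥ ∧ D ≠ ⊤ ∧ Nondeg (Q.comp D.subtype) ∧
      BicInv (fun i : {i : ι // r i ≠ 2} => T i) D)
    (i₀ : ι) (hi₀ : r i₀ = 2) : False :=
  box_E7_of (lr_two hG hE hρ) hG hE hρ hIH hl hx hcov h8 heven T hTO hTM hTr hTc hD i₀ hi₀

/-- the same with an invariant nondegenerate subspace `D` -/
theorem box_E7' [CharP F 2] (hG : Good Q) (hE : Env G Ω N) (hρ : Rep Q N ρ)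
    (hIH : IH (Nat.card (P Q))) {ι : Type} [Finite ι] {x : ι → G} {M : ι → Gam Q} {r : ι → ℕ}
    (hl : ∀ i, Lf ρ (x i) (M i)) (hx : PF x r) (hcov : Cov Ω x)
    (h8 : 8 ≤ Module.finrank F V)
    (T : ι → V ≃ₗ[F] V) (hTO : ∀ i, T i ∈ O Q) (hTM : ∀ i v, (M i).1 v = T i v)
    (hTc : ∀ i j, T i * T j = T j * T i)
    (D : Submodule F V) (hD0 : D ≠ ⊥) (hD1 : D ≠ ⊤) (hDn : Nondeg (Q.comp D.subtype))
    (hDi : ∀ i, ∀ v ∈ D, T i v ∈ D) (i₀ : ι) (hi₀ : r i₀ = 2) : False :=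
  E7_aux (lr_two hG hE hρ) hG hE hρ hIH hl hx hcov h8 T hTO hTM hTc D hD0 hD1 hDn hDi i₀ hi₀

end Cfsg.Agent.H578.RC
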