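import Cfsg.Agent.H578.RC.Lin2

/-!
# S3510, row F, box E7: the four-dimensional piece (helper578)
-/

set_option autoImplicit false
open Cfsg

namespace Cfsg.Agent.H578.RC

open QuadraticMap
open Cfsg.Agent.LieClassical.OrthCore

variable {F V : Type*} [Field F] [CharP F 2] [AddCommGroup V] [Module F V] {Q : QuadraticForm F V}

/-- four vectors on which `u` is a long root element -/
structure Q4 (Q : QuadraticForm F V) (u : V ≃ₗ[F] V) (y1 y2 x1 x2 : V) : Prop where
  qy1 : Q y1 = 0
  qy2 : Q y2 = 0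
  qx1 : Q x1 = 0
  qx2 : Q x2 = 0
  yy : polar Q y1 y2 = 0
  xx : polar Q x1 x2 = 0
  b11 : polar Q x1 y1 = 1
  b22 : polar Q x2 y2 = 1
  b12 : polar Q x1 y2 = 0
  b21 : polar Q x2 y1 = 0
  u1 : u y1 = y1 + x2
  u2 : u y2 = y2 + x1
  ux1 : u x1 = x1
  ux2 : u x2 = x2

variable {u : V ≃ₗ[F] V} {y1 y2 x1 x2 : V}

omit [CharP F 2] in
theorem Q4.c11 (h : Q4 Q u y1 y2 x1 x2) : polar Q y1 x1 = 1 := by rw [polar_comm]; exact h.b11
omit [CharP F 2] in
theorem Q4.c22 (h : Q4 Q u y1 y2 x1 x2) : polar Q y2 x2 = 1 := by rw [polar_comm]; exact h.b22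
omit [CharP F 2] in
theorem Q4.c21 (h : Q4 Q u y1 y2 x1 x2) : polar Q y2 x1 = 0 := by rw [polar_comm]; exact h.b12
omit [CharP F 2] in
theorem Q4.c12 (h : Q4 Q u y1 y2 x1 x2) : polar Q y1 x2 = 0 := by rw [polar_comm]; exact h.b21
omit [CharP F 2] in
theorem Q4.yy' (h : Q4 Q u y1 y2 x1 x2) : polar Q y2 y1 = 0 := by rw [polar_comm]; exact h.yy
omit [CharP F 2] in
theorem Q4.xx' (h : Q4 Q u y1 y2 x1 x2) : polar Q x2 x1 = 0 := by rw [polar_comm]; exact h.xx

/-- existence -/
theorem exists_Q4 (h : Inv2 Q u) {D : Submodule F V} (hD : Nondeg (Q.comp D.subtype))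
    (hu : ∀ v ∈ D, u v ∈ D) (h0 : ∀ v ∈ D, polar Q (u v) v = 0) (hne : ∃ v ∈ D, u v ≠ v) :
    ∃ y1 ∈ D, ∃ y2 ∈ D, ∃ x1 ∈ D, ∃ x2 ∈ D, Q4 Q u y1 y2 x1 x2 := by
  obtain ⟨v, hv, hv1⟩ := hne
  have hx : u v - v ∈ D := D.sub_mem (hu v hv) hv
  obtain ⟨w, hw, hw1⟩ : ∃ w ∈ D, polar Q (u v - v) w = 1 := by
    obtain ⟨⟨w, hw⟩, hw1⟩ := hD.exists_polar_eq (x := (⟨u v - v, hx⟩ : D)) (by
      intro h1
      exact hv1 (sub_eq_zero.1 (congrArg Subtype.val h1))) 1
    exact ⟨w, hw, hw1⟩
  set x2 := u v - v with hx2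
  set x1 := u w - w with hx1
  have hx1D : x1 ∈ D := D.sub_mem (hu w hw) hw
  have qx1 : Q x1 = 0 := by rw [hx1, h.Q_dl, h0 w hw]
  have qx2 : Q x2 = 0 := by rw [hx2, h.Q_dl, h0 v hv]
  have ux1 : u x1 = x1 := h.dl_dl w
  have ux2 : u x2 = x2 := h.dl_dl v
  have b11 : polar Q x1 v = 1 := by
    rw [hx1, polar_sub_left, h.adj, ← hw1, hx2, polar_sub_left, polar_comm Q w (u v), polar_comm Q w v]
  have b12 : polar Q x1 w = 0 := by rw [hx1, polar_sub_left, h0 w hw, polar_self2, sub_zero]
  have b21 : polar Q x2 v = 0 := by rw [hx2, polar_sub_left, h0 v hv, polar_self2, sub_zero]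
  have xx : polar Q x1 x2 = 0 := h.Xs_polar x1 ⟨w, hw, rfl⟩ x2 ⟨v, hv, rfl⟩
  have e1 : u v = v + x2 := by rw [hx2]; abel
  have e2 : u w = w + x1 := by rw [hx1]; abel
  have v11 : polar Q v x1 = 1 := by rw [polar_comm]; exact b11
  have v12 : polar Q w x1 = 0 := by rw [polar_comm]; exact b12
  have v21 : polar Q v x2 = 0 := by rw [polar_comm]; exact b21
  have v22 : polar Q w x2 = 1 := by rw [polar_comm]; exact hw1
  have xx' : polar Q x2 x1 = 0 := by rw [polar_comm]; exact xx
  have two : (2 : F) = 0 := two0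
  have ds : ∀ a : F, a + a = 0 := fun a => CharTwo.add_self_eq_zero a
  refine ⟨v + Q v • x1, D.add_mem hv (D.smul_mem _ hx1D), w + Q w • x2 + polar Q v w • x1,
    D.add_mem (D.add_mem hw (D.smul_mem _ hx)) (D.smul_mem _ hx1D), x1, hx1D, x2, hx, ?_⟩
  constructor
  · rw [Q_add, QuadraticMap.map_smul, qx1, polar_smul_right, v11]
    simp only [smul_eq_mul, mul_zero, mul_one, add_zero]
    exact ds _
  · rw [Q_add, Q_add, QuadraticMap.map_smul, QuadraticMap.map_smul, qx1, qx2, polar_smul_right, polar_smul_right,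
      v22, polar_add_left, v12, polar_smul_left, xx']
    simp only [smul_eq_mul, mul_zero, mul_one, add_zero]
    exact ds _
  · exact qx1
  · exact qx2
  · rw [polar_add_left, polar_add_right, polar_add_right, polar_smul_right, polar_smul_right, v21, v11,
      polar_smul_left, polar_add_right, polar_add_right, b12, polar_smul_right, polar_smul_right, xx,
      polar_self_of_sing qx1]
    simp only [smul_eq_mul, mul_zero, mul_one, add_zero]
    exact ds _
  · exact xx
  · rw [polar_add_right, b11, polar_smul_right, polar_self_of_sing qx1]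
    simp
  · rw [polar_add_right, polar_add_right, hw1, polar_smul_right, polar_smul_right, polar_self_of_sing qx2, xx']
    simp
  · rw [polar_add_right, polar_add_right, b12, polar_smul_right, polar_smul_right, polar_self_of_sing qx1, xx]
    simp
  · rw [polar_add_right, b21, polar_smul_right, xx']
    simp
  · rw [map_add, map_smul, ux1, e1]; abel
  · rw [map_add, map_add, map_smul, map_smul, ux1, ux2, e2]; abel
  · exact ux1
  · exact ux2

/-- coordinates in a four-dimensional space -/
theorem Q4.span [FiniteDimensional F V] (h : Q4 Q u y1 y2 x1 x2) {D : Submodule F V} (h4 : Module.finrank F D = 4)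
    (m1 : y1 ∈ D) (m2 : y2 ∈ D) (m3 : x1 ∈ D) (m4 : x2 ∈ D) {v : V} (hv : v ∈ D) :
    ∃ a b c d : F, v = a • y1 + b • y2 + c • x1 + d • x2 := by
  have hli : LinearIndependent F ![y1, y2, x1, x2] := by
    rw [Fintype.linearIndependent_iff]
    intro g hg
    rw [Fin.sum_univ_four] at hg
    simp only [Matrix.cons_val_zero, Matrix.cons_val_one, Matrix.cons_val] at hg
    have e1 := congrArg (fun z => polar Q x1 z) hg
    have e2 := congrArg (fun z => polar Q x2 z) hg
    have e3 := congrArg (fun z => polar Q y1 z) hg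
    have e4 := congrArg (fun z => polar Q y2 z) hg
    simp only [polar_add_right, polar_smul_right, h.b11, h.b12, h.xx, polar_self_of_sing h.qx1, polar_zero_right,
      smul_eq_mul, mul_one, mul_zero, add_zero] at e1
    simp only [polar_add_right, polar_smul_right, h.b22, h.b21, h.xx', polar_self_of_sing h.qx2, polar_zero_right,
      smul_eq_mul, mul_one, mul_zero, add_zero, zero_add] at e2
    simp only [polar_add_right, polar_smul_right, h.c11, h.c12, h.yy, polar_self_of_sing h.qy1, polar_zero_right,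
      smul_eq_mul, mul_one, mul_zero, add_zero, zero_add] at e3
    simp only [polar_add_right, polar_smul_right, h.c22, h.c21, h.yy', polar_self_of_sing h.qy2, polar_zero_right,
      smul_eq_mul, mul_one, mul_zero, add_zero, zero_add] at e4
    intro i
    fin_cases i
    · exact e1
    · exact e2
    · exact e3
    · exact e4
  have hfr : Module.finrank F (Submodule.span F (Set.range ![y1, y2, x1, x2])) = 4 := by
    rw [finrank_span_eq_card hli]; rfl
  have hle : Submodule.span F (Set.range ![y1, y2, x1, x2]) ≤ D := by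
    rw [Submodule.span_le]
    rintro _ ⟨i, rfl⟩
    fin_cases i
    · exact m1
    · exact m2
    · exact m3
    · exact m4
  have heq := Submodule.eq_of_le_of_finrank_eq hle (by rw [hfr, h4])
  rw [← heq, Submodule.mem_span_range_iff_exists_fun] at hv
  obtain ⟨g, hg⟩ := hv
  rw [Fin.sum_univ_four] at hg
  exact ⟨g 0, g 1, g 2, g 3, hg.symm⟩

/-- `T` preserves `⟨y1, y2⟩` -/
theorem Q4.pres [FiniteDimensional F V] (hu : Inv2 Q u) (h : Q4 Q u y1 y2 x1 x2) {D : Submodule F V}
    (h4 : Module.finrank F D = 4)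
    (m1 : y1 ∈ D) (m2 : y2 ∈ D) (m3 : x1 ∈ D) (m4 : x2 ∈ D) {T : V ≃ₗ[F] V} (hT : T ∈ O Q)
    (hc : ∀ v, T (u v) = u (T v)) (hTD : ∀ v ∈ D, T v ∈ D) {r : ℕ} (hr : Odd r) (hTr : T ^ r = 1) :
    ∃ a b c d : F, a * d + b * c = 1 ∧ T y1 = a • y1 + b • y2 ∧ T y2 = c • y1 + d • y2 ∧
      T x1 = d • x1 + c • x2 ∧ T x2 = b • x1 + a • x2 := by
  obtain ⟨a, b, p, q, e1⟩ := h.span h4 m1 m2 m3 m4 (hTD y1 m1)
  obtain ⟨c, d, p', q', e2⟩ := h.span h4 m1 m2 m3 m4 (hTD y2 m2)
  have ds : ∀ a : F, a + a = 0 := fun a => CharTwo.add_self_eq_zero a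
  have e3 : T x2 = b • x1 + a • x2 := by
    have h1 : x2 = u y1 - y1 := by rw [h.u1]; abel
    nth_rewrite 1 [h1]
    rw [map_sub, hc, e1]
    simp only [map_add, map_smul, h.u1, h.u2, h.ux1, h.ux2]
    module
  have e4 : T x1 = d • x1 + c • x2 := by
    have h1 : x1 = u y2 - y2 := by rw [h.u2]; abel
    nth_rewrite 1 [h1]
    rw [map_sub, hc, e2]
    simp only [map_add, map_smul, h.u1, h.u2, h.ux1, h.ux2]
    module
  have r1 : a * d + b * c = 1 := by
    have h1 := polar_map hT x1 y1
    rw [e4, e1, h.b11] at h1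
    simp only [polar_add_right, polar_smul_right, polar_add_left, polar_smul_left, h.b11, h.b12, h.b21, h.b22,
      h.xx, h.xx', polar_self_of_sing h.qx1, polar_self_of_sing h.qx2, smul_eq_mul, mul_one, mul_zero, add_zero,
      zero_add] at h1
    linear_combination h1
  have r2 : a * p + b * q = 0 := by
    have h1 := mem_O.1 hT y1
    rw [e1, h.qy1] at h1
    simp only [Q_add, QuadraticMap.map_smul, polar_add_right, polar_smul_right, polar_add_left, polar_smul_left,
      h.qy1, h.qy2, h.qx1, h.qx2, h.yy, h.c11, h.c12, h.c21, h.c22, h.xx, smul_eq_mul, mul_one, mul_zero, add_zero,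
      zero_add] at h1
    linear_combination h1
  have r3 : c * p' + d * q' = 0 := by
    have h1 := mem_O.1 hT y2
    rw [e2, h.qy2] at h1
    simp only [Q_add, QuadraticMap.map_smul, polar_add_right, polar_smul_right, polar_add_left, polar_smul_left,
      h.qy1, h.qy2, h.qx1, h.qx2, h.yy, h.c11, h.c12, h.c21, h.c22, h.xx, smul_eq_mul, mul_one, mul_zero, add_zero,
      zero_add] at h1
    linear_combination h1
  have r4 : a * p' + b * q' + p * c + q * d = 0 := by
    have h1 := polar_map hT y1 y2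
    rw [e1, e2, h.yy] at h1
    simp only [polar_add_right, polar_smul_right, polar_add_left, polar_smul_left,
      h.qy1, h.qy2, h.qx1, h.qx2, h.yy, h.yy', h.c11, h.c12, h.c21, h.c22, h.b11, h.b12, h.b21, h.b22, h.xx, h.xx',
      polar_self_of_sing h.qx1, polar_self_of_sing h.qx2, polar_self_of_sing h.qy1, polar_self_of_sing h.qy2,
      smul_eq_mul, mul_one, mul_zero, add_zero, zero_add] at h1
    linear_combination h1
  have two : (2 : F) = 0 := two0
  -- the scalar `ν`
  obtain ⟨ν, hν⟩ : ∃ ν, ν = c * p + d * q := ⟨_, rfl⟩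
  have hp : p = ν * b := by
    rw [hν]; linear_combination (-1 : F) * p * r1 + d * r2 - (b * d * q) * two + (b * c * p) * two - (b * c * p) * two
  have hq : q = ν * a := by
    rw [hν]; linear_combination (-1 : F) * q * r1 + c * r2 - (a * c * p) * two
  have hp' : p' = ν * d := by
    have : a * p' + b * q' = ν := by rw [hν]; linear_combination r4 - (c * p + d * q) * two
    rw [← this]
    linear_combination (-1 : F) * p' * r1 + b * r3 - (b * d * q') * two
  have hq' : q' = ν * c := by
    have : a * p' + b * q' = ν := by rw [hν]; linear_combination r4 - (c * p + d * q) * two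
    rw [← this]
    linear_combination (-1 : F) * q' * r1 + a * r3 - (a * c * p') * two
  -- `ν = 0`
  let t : Module.End F V := (T : V →ₗ[F] V)
  let n : Module.End F V := dl u
  let g : Module.End F V := 1 + ν • n
  have hnn : n * n = 0 := by
    ext v
    show dl u (dl u v) = 0
    rw [dl_apply, dl_apply, hu.dl_dl, sub_self]
  have hgg : g * g = 1 := by
    have h1 : g * g = 1 + (2 : F) • (ν • n) + (ν * ν) • (n * n) := by
      show (1 + ν • n) * (1 + ν • n) = _
      rw [mul_add, add_mul, add_mul, one_mul, mul_one, one_mul, smul_mul_smul_comm, two_smul]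
      abel
    rw [h1, hnn, two, zero_smul, smul_zero, add_zero, add_zero]
  have htn : t * n = n * t := by
    ext v
    show T (u v - v) = u (T v) - T v
    rw [map_sub, hc]
  have htg : Commute t g := by
    show t * (1 + ν • n) = (1 + ν • n) * t
    rw [mul_add, add_mul, mul_one, one_mul, mul_smul_comm, smul_mul_assoc, htn]
  have htr : t ^ r = 1 := by
    have h1 : ∀ k : ℕ, t ^ k = ((T ^ k : V ≃ₗ[F] V) : V →ₗ[F] V) := by
      intro k
      induction k with
      | zero => rfl
      | succ k ih => rw [pow_succ, ih, pow_succ]; rfl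
    rw [h1, hTr]; rfl
  have hgr : g ^ r = g := by
    obtain ⟨k, rfl⟩ := hr
    rw [pow_add, pow_mul, pow_one, pow_two, hgg, one_pow, one_mul]
  have hY : ∀ k : ℕ, ∀ w, (∃ α β : F, w = α • y1 + β • y2) → ∃ α β : F, ((t * g) ^ k) w = α • y1 + β • y2 := by
    intro k
    induction k with
    | zero => intro w hw; exact hw
    | succ k ih =>
      rintro w ⟨α, β, rfl⟩
      have h1 : (t * g) (α • y1 + β • y2) = (α * a + β * c) • y1 + (α * b + β * d) • y2 := by
        show T (g (α • y1 + β • y2)) = _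
        have h2 : g (α • y1 + β • y2) = α • y1 + β • y2 + ν • (α • x2 + β • x1) := by
          show α • y1 + β • y2 + ν • (u (α • y1 + β • y2) - (α • y1 + β • y2)) = _
          rw [map_add, map_smul, map_smul, h.u1, h.u2]
          module
        rw [h2]
        simp only [map_add, map_smul, e1, e2, e3, e4, hp, hq, hp', hq']
        have h3 : ∀ v : V, v + v = 0 := vadd_self (F := F)
        have key : α • (a • y1 + b • y2 + (ν * b) • x1 + (ν * a) • x2) + β • (c • y1 + d • y2 + (ν * d) • x1 + (ν * c) • x2) +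
            ν • (α • (b • x1 + a • x2) + β • (d • x1 + c • x2)) =
            (α * a + β * c) • y1 + (α * b + β * d) • y2 + ((ν * (α * b + β * d)) • x1 + (ν * (α * b + β * d)) • x1) +
              ((ν * (α * a + β * c)) • x2 + (ν * (α * a + β * c)) • x2) := by module
        rw [key, h3, h3, add_zero, add_zero]
      rw [pow_succ]
      show ∃ α' β' : F, ((t * g) ^ k) ((t * g) (α • y1 + β • y2)) = _
      exact ih _ ⟨_, _, h1⟩
  have hν0 : ν = 0 := by
    obtain ⟨α, β, h1⟩ := hY r y1 ⟨1, 0, by module⟩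
    rw [htg.mul_pow, htr, hgr, one_mul] at h1
    have h2 : g y1 = y1 + ν • x2 := by
      show y1 + ν • (u y1 - y1) = _
      rw [h.u1]; module
    rw [h2] at h1
    have h3 := congrArg (fun z => polar Q y2 z) h1
    simp only [polar_add_right, polar_smul_right, h.yy', h.c22, polar_self_of_sing h.qy2, smul_eq_mul, mul_one,
      mul_zero, add_zero, zero_add] at h3
    exact h3
  refine ⟨a, b, c, d, r1, ?_, ?_, e4, e3⟩
  · rw [e1, hp, hq, hν0]; module
  · rw [e2, hp', hq', hν0]; module

end Cfsg.Agent.H578.RC
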