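import Cfsg.Agent.H138.RC.Base
import Cfsg.Agent.H578.RC.Lin3
import Cfsg.Agent.LieClassical.OrthFinite

/-!
# S3510, row F, box E7: the rules for families of isometries in characteristic 2 (helper578)
-/

set_option autoImplicit false
open Cfsg

namespace Cfsg.Agent.H578.RC

open QuadraticMap MulAction
open Cfsg.Agent.LieClassical Cfsg.Agent.LieClassical.OrthCore Cfsg.Agent.LieClassical.OrthTrans
open Cfsg.Agent.LieClassical.OrthSimple Cfsg.Agent.ClassicalGeometry.OrthSemi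
open Cfsg.Agent.ClassicalGeometry.OrthAut1 Cfsg.Agent.H106.RC Cfsg.Agent.H93.RC Cfsg.Agent.H138.RC

section lin

variable {F V : Type*} [Field F] [AddCommGroup V] [Module F V] {Q : QuadraticForm F V}

/-- `T` is not the identity on `W` -/
def Nt (T : V ≃ₗ[F] V) (W : Submodule F V) : Prop := ∃ v ∈ W, T v ≠ v

theorem not_Nt {T : V ≃ₗ[F] V} {W : Submodule F V} : ¬ Nt T W ↔ ∀ v ∈ W, T v = v := by
  unfold Nt; push Not; rfl

/-- fixed-point-free on `D` -/
def Fpf (T : V ≃ₗ[F] V) (D : Submodule F V) : Prop := ∀ v ∈ D, T v = v → v = 0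

variable [CharP F 2]

theorem Fpf.sq {T : V ≃ₗ[F] V} {D : Submodule F V} (hD : ∀ v ∈ D, T v ∈ D) (h : Fpf T D) : Fpf (T ^ 2) D := by
  intro v hv hv2
  have h1 : T (T v - v) = T v - v := by
    have h2 : T (T v) = v := hv2
    rw [map_sub, h2, vsub_eq (F := F), vsub_eq (F := F), add_comm]
  exact h v hv (sub_eq_zero.1 (h _ (D.sub_mem (hD v hv) hv) h1))

omit [CharP F 2] in
theorem pow_inv {T : V ≃ₗ[F] V} {D : Submodule F V} (hD : ∀ v ∈ D, T v ∈ D) (k : ℕ) :
    ∀ v ∈ D, (T ^ k) v ∈ D := by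
  induction k with
  | zero => intro v hv; exact hv
  | succ k ih =>
    intro v hv
    rw [pow_succ]
    exact ih _ (hD v hv)

theorem Fpf.two_pow {T : V ≃ₗ[F] V} {D : Submodule F V} (hD : ∀ v ∈ D, T v ∈ D) (h : Fpf T D) (k : ℕ) :
    Fpf (T ^ (2 ^ k)) D := by
  induction k with
  | zero => simpa using h
  | succ k ih =>
    rw [pow_succ, pow_mul]
    exact Fpf.sq (pow_inv hD _) ih

theorem scal_one {T : V ≃ₗ[F] V} (hT : T ∈ O Q) {W : Submodule F V} (hW : Nondeg (Q.comp W.subtype))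
    (h0 : W ≠ ⊥) {a : F} (h : ∀ v ∈ W, T v = a • v) : a = 1 := by
  obtain ⟨v, hv, hv0⟩ := W.ne_bot_iff.1 h0
  obtain ⟨⟨w, hw⟩, hvw⟩ := hW.exists_polar_ne (x := (⟨v, hv⟩ : W)) (fun h => hv0 (congrArg Subtype.val h))
  have hvw' : polar Q v w ≠ 0 := hvw
  have h1 := polar_map hT v w
  rw [h v hv, h w hw, polar_smul_left, polar_smul_right, smul_eq_mul, smul_eq_mul, ← mul_assoc] at h1
  have h2 : (a * a - 1) * polar Q v w = 0 := by rw [sub_mul, h1, one_mul, sub_self]
  have h3 : a * a - 1 = 0 := (mul_eq_zero.1 h2).resolve_right hvw'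
  have h4 : (a - 1) * (a - 1) = 0 := by
    have : (2 : F) = 0 := two0
    linear_combination h3 + (1 - a) * this
  exact sub_eq_zero.1 (mul_self_eq_zero.1 h4)

end lin

variable {F V G Ω : Type} [Field F] [Finite F] [CharP F 2] [AddCommGroup V] [Module F V] [FiniteDimensional F V]
  [Group G] [Finite G] [MulAction G Ω] [Nonempty Ω]
  {Q : QuadraticForm F V} {N : Subgroup G} {ρ : ↥(E Q) →* G} {ι : Type} [Finite ι] {x : ι → G}
  {M : ι → Gam Q} {X : ι → V ≃ₗ[F] V} {c : ι → F} {r : ι → ℕ}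

/-- a cover by isometries -/
structure FC (Q : QuadraticForm F V) (Ω : Type) [MulAction G Ω] (N : Subgroup G) (ρ : ↥(E Q) →* G)
    {ι : Type} (x : ι → G) (M : ι → Gam Q) (X : ι → V ≃ₗ[F] V) (r : ι → ℕ) : Prop where
  cv : CV Q Ω N ρ 2 x M X (fun _ => 1) r
  iso : ∀ i, X i ∈ O Q

/-- **Rule (A)** -/
theorem FC.box_A (h : FC Q Ω N ρ x M X r)
    (W : Submodule F V) (hW : Nondeg (Q.comp W.subtype)) (h5 : 5 ≤ Module.finrank F W) (hWt : W ≠ ⊤)
    (hinv : ∀ i, ∀ v ∈ W, X i v ∈ W) (hne : ∃ i, Nt (X i) W)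
    (hinj : ∀ i j, Nt (X i) W → Nt (X j) W → r i = r j → i = j)
    (hp : ∀ i, r i = 2 → Nt (X i) W)
    (hRC : ¬ (Nat.card F = 2 ∧ Module.finrank F W = 6 ∧ ∃ U : Submodule F V, U ≤ W ∧ (∀ v ∈ U, Q v = 0) ∧
      Module.finrank F U = 3) ∨ ∀ i j, Nt (X i) W → Nt (X j) W → i = j) : False := by
  have h0 : W ≠ ⊥ := by
    rintro rfl
    rw [finrank_bot] at h5
    omega
  have key : ∀ i, (∀ a : F, ¬ ∀ v ∈ W, X i v = a • v) ↔ Nt (X i) W := by
    intro i
    constructor
    · intro h1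
      by_contra h2
      rw [not_Nt] at h2
      exact h1 1 fun v hv => by rw [h2 v hv, one_smul]
    · rintro ⟨v, hv, h1⟩ a h2
      apply h1
      rw [h2 v hv, scal_one (h.iso i) hW h0 h2, one_smul]
  refine h.cv.box_A W (OrthFinite.good_of_finite hW h5) hWt hinv ?_ ?_ ?_ ?_
  · obtain ⟨i, hi⟩ := hne
    exact ⟨i, (key i).2 hi⟩
  · intro i hi j hj hij
    exact hinj i j ((key i).1 hi) ((key j).1 hj) hij
  · rintro i ⟨a, ha⟩ h2
    exact (key i).2 (hp i h2) a ha
  · rcases hRC with h1 | h1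
    · left
      rintro ⟨a, b, U, hU, hU3⟩
      refine h1 ⟨a, b, U.map W.subtype, ?_, ?_, ?_⟩
      · rintro _ ⟨v, -, rfl⟩
        exact v.2
      · rintro _ ⟨v, hv, rfl⟩
        exact hU v hv
      · rw [← hU3]
        exact (LinearEquiv.finrank_eq (Submodule.equivMapOfInjective _ W.injective_subtype _)).symm
    · right
      intro i hi j hj
      exact h1 i j ((key i).1 hi) ((key j).1 hj)

/-- the elements `E Q` commuting with the `X j` -/
theorem FC.rho_comm (h : FC Q Ω N ρ x M X r) (i : ι) {c : ↥(E Q)}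
    (hc : ∀ v, X i ((c : V ≃ₗ[F] V) v) = (c : V ≃ₗ[F] V) (X i v)) : ρ c * x i = x i * ρ c := by
  have h1 := h.cv.lf i c
  have h2 : conjE Q (M i) c = c := by
    apply Subtype.ext
    rw [coe_conjE]
    ext v
    obtain ⟨v, rfl⟩ := (M i).1.surjective v
    rw [conjLin_apply', h.cv.lin, h.cv.lin, hc]
  rw [h2] at h1
  exact (mul_inv_eq_iff_eq_mul.1 h1).symm

omit [Finite F] [CharP F 2] [FiniteDimensional F V] in
theorem tg_pow_apply {M : Gam Q} {X : V ≃ₗ[F] V} (h : ∀ v, M.1 v = X v) (k : ℕ) (v : V) :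
    (M ^ k).1 v = (X ^ k) v := by
  induction k generalizing v with
  | zero => rfl
  | succ k ih =>
    rw [pow_succ, pow_succ]
    change (M ^ k).1 (M.1 v) = (X ^ k) (X v)
    rw [h, ih]

omit [Finite F] [CharP F 2] [FiniteDimensional F V] in
theorem tg_inv_apply {M : Gam Q} {X : V ≃ₗ[F] V} (h : ∀ v, M.1 v = X v) (v : V) :
    (M⁻¹).1 v = X⁻¹ v := by
  obtain ⟨v, rfl⟩ := X.surjective v
  have h1 : X⁻¹ (X v) = v := X.symm_apply_apply v
  rw [h1, ← h]
  exact inv_apply M.1 v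

/-- **(MV)** : the member `i₀` may be replaced by an element of odd prime order -/
theorem FC.mv [DecidableEq ι] (h : FC Q Ω N ρ x M X r) (i₀ : ι) (c : ↥(E Q))
    (hc : ∀ j, j ≠ i₀ → ∀ v, X j ((c : V ≃ₗ[F] V) v) = (c : V ≃ₗ[F] V) (X j v))
    (z : V ≃ₗ[F] V) (hz : z = (c : V ≃ₗ[F] V) * X i₀ * (c : V ≃ₗ[F] V)⁻¹ * (X i₀)⁻¹)
    (D : Submodule F V) (hD0 : D ≠ ⊥) (hD : ∀ v ∈ D, z v ∈ D) (hf : Fpf z D)
    (hfix : ∃ v, v ≠ 0 ∧ z v = v) :
    ∃ (k : ℕ) (ℓ : ℕ) (x' : ι → G) (M' : ι → Gam Q), ℓ ≠ 2 ∧ z ^ k ≠ 1 ∧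
      FC Q Ω N ρ x' M' (Function.update X i₀ (z ^ k)) (Function.update r i₀ ℓ) := by
  classical
  let zG : G := ρ c * x i₀ * (ρ c)⁻¹ * (x i₀)⁻¹
  let L : Gam Q := tg Q c * M i₀ * (tg Q c)⁻¹ * (M i₀)⁻¹
  have hL : Lf ρ zG L := ((Lf.tg c).mul (h.cv.lf i₀)).mul (Lf.tg c).inv |>.mul (h.cv.lf i₀).inv
  have hLz : ∀ v, L.1 v = z v := by
    intro v
    have h1 : L.1 v = (tg Q c).1 ((M i₀).1 (((tg Q c)⁻¹).1 (((M i₀)⁻¹).1 v))) := rfl
    rw [h1, tg_inv_apply (X := (c : V ≃ₗ[F] V)) (fun v => tg_apply c v), tg_inv_apply (h.cv.lin i₀), h.cv.lin,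
      tg_apply, hz]
    rfl
  have hcx : ∀ j, j ≠ i₀ → ρ c * x j = x j * ρ c := fun j hj => h.rho_comm j (hc j hj)
  have hcov := h.cv.cov
  -- an odd prime dividing the order
  obtain ⟨ℓ, hℓ, hℓ2, hℓm⟩ : ∃ ℓ : ℕ, ℓ.Prime ∧ ℓ ≠ 2 ∧ ℓ ∣ orderOf zG := by
    by_contra hno
    push Not at hno
    have h2 : orderOf zG = 2 ^ (orderOf zG).primeFactorsList.length :=
      Nat.eq_prime_pow_of_unique_prime_dvd (orderOf_pos zG).ne' (fun {d} hd hdm => by
        by_contra h3
        exact hno d hd h3 hdm)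
    set a := (orderOf zG).primeFactorsList.length
    have h3 : zG ^ (2 ^ a) = 1 := by rw [← h2]; exact pow_orderOf_eq_one zG
    have h4 : IsScal (L ^ (2 ^ a)) := hL.pow_scal h.cv.good h.cv.rep h3
    obtain ⟨s, -, hs⟩ := h4
    obtain ⟨v, hv0, hv⟩ := hfix
    have h5 : s = 1 := by
      have h6 := hs v
      rw [tg_pow_apply hLz, pow_apply_of hv] at h6
      have h7 : (1 - s) • v = 0 := by rw [sub_smul, one_smul, ← h6, sub_self]
      rcases smul_eq_zero.1 h7 with h8 | h8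
      · exact (sub_eq_zero.1 h8).symm
      · exact (hv0 h8).elim
    obtain ⟨w, hw, hw0⟩ := D.ne_bot_iff.1 hD0
    apply hw0
    apply Fpf.two_pow hD hf a w hw
    rw [← tg_pow_apply hLz, hs, h5, one_smul]
  obtain ⟨k, hk⟩ := hℓm
  have hz1 : (zG ^ k) ^ ℓ = 1 := by rw [← pow_mul, mul_comm, ← hk]; exact pow_orderOf_eq_one zG
  have hzne : zG ^ k ≠ 1 := by
    intro h1
    have h2 := orderOf_dvd_of_pow_eq_one h1
    rw [hk] at h2
    have hk0 : 0 < k := by
      rcases Nat.eq_zero_or_pos k with h3 | h3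
      · rw [h3, mul_zero] at hk
        exact absurd hk (orderOf_pos zG).ne'
      · exact h3
    have h3 := Nat.le_of_dvd hk0 h2
    have := hℓ.two_le
    nlinarith
  have hzc : ∀ j, j ≠ i₀ → zG ^ k * x j = x j * zG ^ k := by
    intro j hj
    have h1 : Commute (ρ c) (x j) := hcx j hj
    have h2 : Commute (x i₀) (x j) := h.cv.comm i₀ j
    exact (((h1.mul_left h2).mul_left h1.inv_left).mul_left h2.inv_left).pow_left k
  have hmem : zG ^ k ∈ Subgroup.closure {z | ∃ c : G, (∀ j, j ≠ i₀ → c * x j = x j * c) ∧ z = c * x i₀ * c⁻¹} := by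
    apply Subgroup.pow_mem
    apply Subgroup.mul_mem
    · exact Subgroup.subset_closure ⟨ρ c, fun j hj => hcx j hj, rfl⟩
    · apply Subgroup.inv_mem
      exact Subgroup.subset_closure ⟨1, by simp, by simp⟩
  have hzcx : ∀ j, j ≠ i₀ → ∀ v, X j (z v) = z (X j v) := by
    intro j hj v
    have hcj := hc j hj
    have h1 : ∀ v, X j ((c : V ≃ₗ[F] V)⁻¹ v) = (c : V ≃ₗ[F] V)⁻¹ (X j v) := by
      intro v
      obtain ⟨v, rfl⟩ := (c : V ≃ₗ[F] V).surjective v
      have h2 : ∀ w, (c : V ≃ₗ[F] V)⁻¹ ((c : V ≃ₗ[F] V) w) = w := fun w => (c : V ≃ₗ[F] V).symm_apply_apply w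
      rw [h2, hcj, h2]
    have hij := h.cv.commX i₀ j
    have h3 : ∀ v, X j (X i₀ v) = X i₀ (X j v) := fun v => (LinearEquiv.congr_fun hij v).symm
    have h4 : ∀ v, X j ((X i₀)⁻¹ v) = (X i₀)⁻¹ (X j v) := by
      intro v
      obtain ⟨v, rfl⟩ := (X i₀).surjective v
      have h2 : ∀ w, (X i₀)⁻¹ (X i₀ w) = w := fun w => (X i₀).symm_apply_apply w
      rw [h2, h3, h2]
    rw [hz]
    show X j ((c : V ≃ₗ[F] V) (X i₀ ((c : V ≃ₗ[F] V)⁻¹ ((X i₀)⁻¹ v)))) =
      (c : V ≃ₗ[F] V) (X i₀ ((c : V ≃ₗ[F] V)⁻¹ ((X i₀)⁻¹ (X j v))))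
    rw [hcj, h3, h1, h4]
  have hzO : z ∈ O Q := by
    rw [hz]
    exact (O Q).mul_mem ((O Q).mul_mem ((O Q).mul_mem (E_le_O c.2) (h.iso i₀)) ((O Q).inv_mem (E_le_O c.2)))
      ((O Q).inv_mem (h.iso i₀))
  have hzkc : ∀ j, j ≠ i₀ → X j * z ^ k = z ^ k * X j := by
    intro j hj
    have h1 : Commute (X j) z := by
      ext v
      exact hzcx j hj v
    exact h1.pow_right k
  have hiso : ∀ i, Function.update X i₀ (z ^ k) i ∈ O Q := by
    intro i
    by_cases hi : i = i₀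
    · subst hi
      rw [Function.update_self]
      exact (O Q).pow_mem hzO k
    · rw [Function.update_of_ne hi]
      exact h.iso i
  refine ⟨k, ℓ, Function.update x i₀ (zG ^ k), Function.update M i₀ (L ^ k), hℓ2, ?_, ⟨⟨h.cv.good, h.cv.env, h.cv.rep, h.cv.lr,
    h.cv.ih, ?_, ?_, ?_, ?_, h.cv.cov.mv i₀ hmem, ?_, ?_, ?_, ?_⟩, hiso⟩⟩
  · intro h1
    apply hzne
    rw [(hL.pow k).eq_one_iff h.cv.good h.cv.env h.cv.rep]
    refine ⟨1, one_ne_zero, fun v => ?_⟩
    rw [tg_pow_apply hLz, h1, one_smul]; rfl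
  · intro i
    by_cases hi : i = i₀
    · subst hi; rw [Function.update_self]; exact hℓ
    · rw [Function.update_of_ne hi]; exact h.cv.prime i
  · intro i
    by_cases hi : i = i₀
    · subst hi; rw [Function.update_self, Function.update_self]; exact hz1
    · rw [Function.update_of_ne hi, Function.update_of_ne hi]; exact h.cv.pow i
  · intro i
    by_cases hi : i = i₀
    · subst hi; rw [Function.update_self]; exact hzne
    · rw [Function.update_of_ne hi]; exact h.cv.ne i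
  · intro i j
    by_cases hi : i = i₀
    · subst hi
      rw [Function.update_self]
      by_cases hj : j = i
      · subst hj; rw [Function.update_self]
      · rw [Function.update_of_ne hj]; exact hzc j hj
    · rw [Function.update_of_ne hi]
      by_cases hj : j = i₀
      · subst hj; rw [Function.update_self]; exact (hzc i hi).symm
      · rw [Function.update_of_ne hj]; exact h.cv.comm i j
  · intro i
    by_cases hi : i = i₀
    · subst hi; rw [Function.update_self, Function.update_self]; exact hL.pow k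
    · rw [Function.update_of_ne hi, Function.update_of_ne hi]; exact h.cv.lf i
  · intro i v
    by_cases hi : i = i₀
    · subst hi; rw [Function.update_self, Function.update_self]; exact tg_pow_apply hLz k v
    · rw [Function.update_of_ne hi, Function.update_of_ne hi]; exact h.cv.lin i v
  · intro i v
    rw [one_mul]
    exact hiso i v
  · intro i j
    by_cases hi : i = i₀
    · subst hi
      rw [Function.update_self]
      by_cases hj : j = i
      · subst hj; rw [Function.update_self]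
      · rw [Function.update_of_ne hj]; exact (hzkc j hj).symm
    · rw [Function.update_of_ne hi]
      by_cases hj : j = i₀
      · subst hj; rw [Function.update_self]; exact hzkc i hi
      · rw [Function.update_of_ne hj]; exact h.cv.commX i j

end Cfsg.Agent.H578.RC
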