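import Cfsg.Agent.H93.RC.Defs

/-!
# S3510, row F, box E7: linear algebra (helper578)
-/

set_option autoImplicit false
open Cfsg

namespace Cfsg.Agent.H578.RC

open QuadraticMap
open Cfsg.Agent.LieClassical.OrthCore

variable {F V : Type*} [Field F] [AddCommGroup V] [Module F V] {Q : QuadraticForm F V}

/-- the orthogonal space -/
def pp (Q : QuadraticForm F V) (W : Submodule F V) : Submodule F V where
  carrier := {v | ∀ w ∈ W, polar Q w v = 0}
  add_mem' := by
    intro a b ha hb w hw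
    rw [polar_add_right, ha w hw, hb w hw, add_zero]
  zero_mem' := by
    intro w _
    rw [polar_zero_right]
  smul_mem' := by
    intro c a ha w hw
    rw [polar_smul_right, ha w hw, smul_zero]

theorem mem_pp {W : Submodule F V} {v : V} : v ∈ pp Q W ↔ ∀ w ∈ W, polar Q w v = 0 := Iff.rfl

theorem pp_anti {W W' : Submodule F V} (h : W ≤ W') : pp Q W' ≤ pp Q W := fun _ hv w hw => hv w (h hw)

theorem le_pp_pp (W : Submodule F V) : W ≤ pp Q (pp Q W) := by
  intro v hv w hw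
  rw [polar_comm]
  exact hw v hv

theorem pp_eq (W : Submodule F V) : pp Q W = LinearMap.BilinForm.orthogonal (polarBilin Q) W := by
  ext v
  rw [LinearMap.BilinForm.mem_orthogonal_iff]
  rfl

theorem refl_polar : (polarBilin Q).IsRefl := by
  intro x y h
  rw [polarBilin_apply_apply] at h ⊢
  rw [polar_comm]; exact h

theorem nd_polar (hQ : Nondeg Q) : (polarBilin Q).Nondegenerate := by
  refine ⟨fun x hx => hQ x hx, fun x hx => hQ x fun y => ?_⟩
  rw [polar_comm]
  exact hx y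

section fd

variable [FiniteDimensional F V]

theorem finrank_pp (hQ : Nondeg Q) (W : Submodule F V) :
    Module.finrank F W + Module.finrank F (pp Q W) = Module.finrank F V := by
  have h := LinearMap.BilinForm.finrank_orthogonal (nd_polar hQ) W
  rw [← pp_eq] at h
  have h1 := Submodule.finrank_le W
  omega

theorem pp_pp (hQ : Nondeg Q) (W : Submodule F V) : pp Q (pp Q W) = W := by
  apply le_antisymm _ (le_pp_pp W)
  have h1 := finrank_pp hQ W
  have h2 := finrank_pp hQ (pp Q W)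
  exact (Submodule.eq_of_le_of_finrank_eq (le_pp_pp W) (by omega)).ge

omit [FiniteDimensional F V] in
/-- nondegenerate subspaces -/
theorem nondeg_iff (W : Submodule F V) : Nondeg (Q.comp W.subtype) ↔ W ⊓ pp Q W = ⊥ := by
  constructor
  · intro h
    rw [eq_bot_iff]
    rintro v ⟨hv, hv'⟩
    have h1 := h ⟨v, hv⟩ fun y => by
      have := hv' y y.2
      rw [polar_comm] at this
      exact this
    exact congrArg Subtype.val h1
  · intro h x hx
    have h1 : (x : V) ∈ W ⊓ pp Q W := ⟨x.2, fun w hw => by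
      have := hx ⟨w, hw⟩
      rw [polar_comm]
      exact this⟩
    rw [h, Submodule.mem_bot] at h1
    exact Subtype.ext h1

theorem nondeg_pp (hQ : Nondeg Q) {W : Submodule F V} (hW : Nondeg (Q.comp W.subtype)) :
    Nondeg (Q.comp (pp Q W).subtype) := by
  rw [nondeg_iff] at hW ⊢
  rw [pp_pp hQ, inf_comm]
  exact hW

theorem sup_pp (hQ : Nondeg Q) {W : Submodule F V} (hW : Nondeg (Q.comp W.subtype)) : W ⊔ pp Q W = ⊤ := by
  rw [nondeg_iff] at hW
  have h1 := Submodule.finrank_sup_add_finrank_inf_eq W (pp Q W)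
  rw [hW, finrank_bot] at h1
  apply Submodule.eq_top_of_finrank_eq
  have := finrank_pp hQ W
  omega

/-- decomposition of a vector -/
theorem exists_dec (hQ : Nondeg Q) {W : Submodule F V} (hW : Nondeg (Q.comp W.subtype)) (v : V) :
    ∃ a ∈ W, ∃ b ∈ pp Q W, v = a + b := by
  have h : v ∈ W ⊔ pp Q W := by rw [sup_pp hQ hW]; trivial
  obtain ⟨a, ha, b, hb, h⟩ := Submodule.mem_sup.1 h
  exact ⟨a, ha, b, hb, h.symm⟩

/-- two isometries (linear maps) agreeing on `W` and `W^⊥` are equal -/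
theorem ext_dec (hQ : Nondeg Q) {W : Submodule F V} (hW : Nondeg (Q.comp W.subtype)) {f g : V ≃ₗ[F] V}
    (h1 : ∀ v ∈ W, f v = g v) (h2 : ∀ v ∈ pp Q W, f v = g v) : f = g := by
  ext v
  obtain ⟨a, ha, b, hb, rfl⟩ := exists_dec hQ hW v
  rw [map_add, map_add, h1 a ha, h2 b hb]

/-- an isometry preserving `W` preserves `W^⊥` -/
theorem inv_pp {T : V ≃ₗ[F] V} (hT : T ∈ O Q) {W : Submodule F V} (h : ∀ v ∈ W, T v ∈ W) :
    ∀ v ∈ pp Q W, T v ∈ pp Q W := by
  intro v hv w hw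
  have h1 : W.map (T : V →ₗ[F] V) = W := by
    apply Submodule.eq_of_le_of_finrank_eq
    · rintro _ ⟨y, hy, rfl⟩
      exact h y hy
    · exact LinearEquiv.finrank_map_eq T W
  have h2 : w ∈ W.map (T : V →ₗ[F] V) := by rw [h1]; exact hw
  obtain ⟨y, hy, rfl⟩ := h2
  show polar Q (T y) (T v) = 0
  rw [polar_map hT, hv y hy]

/-- surjectivity on invariant subspaces -/
theorem surj_on {T : V ≃ₗ[F] V} {W : Submodule F V} (h : ∀ v ∈ W, T v ∈ W) {w : V} (hw : w ∈ W) :
    ∃ y ∈ W, T y = w := by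
  have h1 : W.map (T : V →ₗ[F] V) = W := by
    apply Submodule.eq_of_le_of_finrank_eq
    · rintro _ ⟨y, hy, rfl⟩
      exact h y hy
    · exact LinearEquiv.finrank_map_eq T W
  have h2 : w ∈ W.map (T : V →ₗ[F] V) := by rw [h1]; exact hw
  obtain ⟨y, hy, hyw⟩ := h2
  exact ⟨y, hy, hyw⟩

end fd

/-! ### The map `T - 1` -/

/-- `T - 1` -/
def dl (T : V ≃ₗ[F] V) : V →ₗ[F] V := (T : V →ₗ[F] V) - LinearMap.id

theorem dl_apply (T : V ≃ₗ[F] V) (v : V) : dl T v = T v - v := rfl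

/-- fixed space -/
def Cf (T : V ≃ₗ[F] V) : Submodule F V := LinearMap.ker (dl T)

/-- commutator space -/
def Cm (T : V ≃ₗ[F] V) : Submodule F V := LinearMap.range (dl T)

theorem mem_Cf {T : V ≃ₗ[F] V} {v : V} : v ∈ Cf T ↔ T v = v := by
  rw [Cf, LinearMap.mem_ker, dl_apply, sub_eq_zero]

theorem mem_Cm {T : V ≃ₗ[F] V} {v : V} : v ∈ Cm T ↔ ∃ y, T y - y = v := by
  rw [Cm, LinearMap.mem_range]
  rfl

theorem Cm_eq (hQ : Nondeg Q) {T : V ≃ₗ[F] V} (hT : T ∈ O Q) : pp Q (Cm T) = Cf T := by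
  ext v
  rw [mem_pp, mem_Cf]
  constructor
  · intro h
    have h1 : ∀ y, polar Q (T v - v) y = 0 := by
      intro y
      obtain ⟨y, rfl⟩ := T.surjective y
      have h2 := h (T y - y) (mem_Cm.2 ⟨y, rfl⟩)
      rw [polar_sub_left] at h2
      rw [polar_sub_left, polar_map hT, polar_comm Q v y, polar_comm Q v (T y)]
      rw [sub_eq_zero] at h2 ⊢
      exact h2.symm
    exact sub_eq_zero.1 (hQ _ h1)
  · rintro h w hw
    obtain ⟨y, rfl⟩ := mem_Cm.1 hw
    rw [polar_sub_left]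
    nth_rewrite 1 [← h]
    rw [polar_map hT, sub_self]

theorem pow_apply_of {T : V ≃ₗ[F] V} {v : V} (h : T v = v) (m : ℕ) : (T ^ m) v = v := by
  induction m with
  | zero => rfl
  | succ m ih => rw [pow_succ, LinearEquiv.mul_apply, h, ih]

/-- `T` unipotent of order prime to the characteristic on `v` -/
theorem eq_of_unip [CharP F 2] {T : V ≃ₗ[F] V} {m : ℕ} (hm : Odd m) (hTm : T ^ m = 1) {v : V}
    (h : T (T v - v) = T v - v) : T v = v := by
  have h1 : ∀ k : ℕ, (T ^ k) v = v + (k : F) • (T v - v) := by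
    intro k
    induction k with
    | zero => simp
    | succ k ih =>
      rw [pow_succ', LinearEquiv.mul_apply, ih, map_add, map_smul, h]
      push_cast
      module
  have h2 := h1 m
  rw [hTm] at h2
  have h3 : (m : F) = 1 := by
    obtain ⟨k, rfl⟩ := hm
    push_cast
    have : (2 : F) = 0 := CharTwo.two_eq_zero
    rw [this]; ring
  rw [h3, one_smul] at h2
  have h4 : (1 : V ≃ₗ[F] V) v = v := rfl
  rw [h4] at h2
  have h5 : T v - v = 0 := by
    have := h2.symm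
    rwa [add_eq_left] at this
  exact sub_eq_zero.1 h5

section fd2

variable [FiniteDimensional F V]

omit [FiniteDimensional F V] in
theorem Cf_inf_Cm [CharP F 2] {T : V ≃ₗ[F] V} {m : ℕ} (hm : Odd m) (hTm : T ^ m = 1) : Cf T ⊓ Cm T = ⊥ := by
  rw [eq_bot_iff]
  rintro v ⟨h1, h2⟩
  obtain ⟨y, rfl⟩ := mem_Cm.1 h2
  have h3 := eq_of_unip hm hTm (mem_Cf.1 h1)
  rw [h3, sub_self]
  exact Submodule.zero_mem _

omit [FiniteDimensional F V] in
theorem nondeg_Cm [CharP F 2] (hQ : Nondeg Q) {T : V ≃ₗ[F] V} (hT : T ∈ O Q) {m : ℕ} (hm : Odd m)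
    (hTm : T ^ m = 1) : Nondeg (Q.comp (Cm T).subtype) := by
  rw [nondeg_iff, Cm_eq hQ hT, inf_comm]
  exact Cf_inf_Cm hm hTm

theorem pp_Cf (hQ : Nondeg Q) {T : V ≃ₗ[F] V} (hT : T ∈ O Q) : pp Q (Cf T) = Cm T := by
  rw [← Cm_eq hQ hT, pp_pp hQ]

theorem nondeg_Cf [CharP F 2] (hQ : Nondeg Q) {T : V ≃ₗ[F] V} (hT : T ∈ O Q) {m : ℕ} (hm : Odd m)
    (hTm : T ^ m = 1) : Nondeg (Q.comp (Cf T).subtype) := by
  rw [nondeg_iff, pp_Cf hQ hT]
  exact Cf_inf_Cm hm hTm

/-- `T - 1` is onto on an invariant subspace without fixed vectors -/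
theorem surj_dl {T : V ≃ₗ[F] V} {W : Submodule F V} (h : ∀ v ∈ W, T v ∈ W) (hf : ∀ v ∈ W, T v = v → v = 0)
    {w : V} (hw : w ∈ W) : ∃ y ∈ W, T y - y = w := by
  let f : W →ₗ[F] W := (dl T).restrict (p := W) (q := W) fun v hv => W.sub_mem (h v hv) hv
  have hinj : Function.Injective f := by
    rw [← LinearMap.ker_eq_bot, LinearMap.ker_eq_bot']
    intro v hv
    have h1 : T v - v = 0 := congrArg Subtype.val hv
    exact Subtype.ext (hf v v.2 (sub_eq_zero.1 h1))
  obtain ⟨y, hy⟩ := (LinearMap.injective_iff_surjective.1 hinj) ⟨w, hw⟩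
  exact ⟨y, y.2, congrArg Subtype.val hy⟩

end fd2

/-- the commutator space is invariant under maps commuting with `T` -/
theorem Cm_inv {T S : V ≃ₗ[F] V} (h : ∀ v, S (T v) = T (S v)) : ∀ v ∈ Cm T, S v ∈ Cm T := by
  intro v hv
  obtain ⟨y, rfl⟩ := mem_Cm.1 hv
  refine mem_Cm.2 ⟨S y, ?_⟩
  rw [map_sub, h]

theorem Cf_inv {T S : V ≃ₗ[F] V} (h : ∀ v, S (T v) = T (S v)) : ∀ v ∈ Cf T, S v ∈ Cf T := by
  intro v hv
  rw [mem_Cf] at hv ⊢
  rw [← h, hv]

end Cfsg.Agent.H578.RC
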