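import Cfsg.Agent.H578.RC.Lin
import Cfsg.Agent.H174.AltRank

/-!
# S3510, row F, box E7: involutions commuting with a fixed-point-free element of odd order (helper578)
-/

set_option autoImplicit false
open Cfsg

namespace Cfsg.Agent.H578.RC

open QuadraticMap
open Cfsg.Agent.LieClassical.OrthCore

variable {F V : Type*} [Field F] [CharP F 2] [AddCommGroup V] [Module F V] {Q : QuadraticForm F V}

theorem two0 : (2 : F) = 0 := CharTwo.two_eq_zero

include F in
theorem vadd_self (v : V) : v + v = 0 := by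
  have : v + v = (2 : F) • v := by rw [two_smul]
  rw [this, two0, zero_smul]

include F in
theorem vsub_eq (v w : V) : v - w = v + w := by
  have h := vadd_self (F := F) w
  rw [sub_eq_add_neg]
  congr 1
  exact neg_eq_of_add_eq_zero_left h

theorem polar_self2 (v : V) : polar Q v v = 0 := by
  rw [polar_self', two0, zero_mul]

theorem Q_add' (v w : V) : Q (v + w) = Q v + Q w + polar Q v w := Q_add v w

/-- `u` is an involutory isometry -/
structure Inv2 (Q : QuadraticForm F V) (u : V ≃ₗ[F] V) : Prop where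
  iso : u ∈ O Q
  sq : ∀ v, u (u v) = v

variable {u : V ≃ₗ[F] V}

theorem Inv2.dl_dl (h : Inv2 Q u) (v : V) : u (u v - v) = u v - v := by
  rw [map_sub, h.sq, vsub_eq (F := F), vsub_eq (F := F), add_comm]

theorem Inv2.adj (h : Inv2 Q u) (v w : V) : polar Q (u v) w = polar Q v (u w) := by
  conv_lhs => rw [← h.sq w]
  rw [polar_map h.iso]

theorem Inv2.Q_dl (h : Inv2 Q u) (v : V) : Q (u v - v) = polar Q (u v) v := by
  rw [vsub_eq (F := F), Q_add, mem_O.1 h.iso]
  have : Q v + Q v = 0 := CharTwo.add_self_eq_zero _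
  rw [this, zero_add]

/-- the map `v ↦ polar Q (u v) v` is additive -/
theorem Inv2.add (h : Inv2 Q u) (v w : V) :
    polar Q (u (v + w)) (v + w) = polar Q (u v) v + polar Q (u w) w := by
  rw [map_add, polar_add_left, polar_add_right, polar_add_right, h.adj w v, polar_comm Q w (u v)]
  have := CharTwo.add_self_eq_zero (polar Q (u v) w)
  linear_combination this

theorem Inv2.zero_of_fpf [FiniteDimensional F V] (h : Inv2 Q u) {T : V ≃ₗ[F] V} (hT : T ∈ O Q)
    (hc : ∀ v, T (u v) = u (T v)) {D : Submodule F V} (hTD : ∀ v ∈ D, T v ∈ D)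
    (hf : ∀ v ∈ D, T v = v → v = 0) {v : V} (hv : v ∈ D) : polar Q (u v) v = 0 := by
  obtain ⟨y, hy, rfl⟩ := surj_dl hTD hf hv
  have h1 := h.add (T y) y
  rw [← vsub_eq (F := F)] at h1
  rw [h1, ← hc, polar_map hT, CharTwo.add_self_eq_zero]

/-- the space `(u - 1) D` -/
def Xs (u : V ≃ₗ[F] V) (D : Submodule F V) : Submodule F V := D.map (dl u)

omit [CharP F 2] in
theorem mem_Xs {D : Submodule F V} {x : V} : x ∈ Xs u D ↔ ∃ v ∈ D, u v - v = x := Iff.rfl

omit [CharP F 2] in
theorem Xs_le {D : Submodule F V} (hu : ∀ v ∈ D, u v ∈ D) : Xs u D ≤ D := by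
  rintro _ ⟨v, hv, rfl⟩
  exact D.sub_mem (hu v hv) hv

theorem Inv2.Xs_fix (h : Inv2 Q u) {D : Submodule F V} {x : V} (hx : x ∈ Xs u D) : u x = x := by
  obtain ⟨v, hv, rfl⟩ := mem_Xs.1 hx
  exact h.dl_dl v

theorem Inv2.Xs_perp (h : Inv2 Q u) {D : Submodule F V} {x y : V} (hx : x ∈ Xs u D) (hy : u y = y) :
    polar Q x y = 0 := by
  obtain ⟨v, hv, rfl⟩ := mem_Xs.1 hx
  rw [polar_sub_left, h.adj, hy, sub_self]

omit [CharP F 2] in
theorem Xs_inv {T : V ≃ₗ[F] V} (hc : ∀ v, T (u v) = u (T v)) {D : Submodule F V} (hTD : ∀ v ∈ D, T v ∈ D) :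
    ∀ x ∈ Xs u D, T x ∈ Xs u D := by
  rintro _ ⟨v, hv, rfl⟩
  refine mem_Xs.2 ⟨T v, hTD v hv, ?_⟩
  rw [dl_apply, map_sub, hc]

omit [CharP F 2] in
theorem Xs_eq_bot {D : Submodule F V} : Xs u D = ⊥ ↔ ∀ v ∈ D, u v = v := by
  constructor
  · intro h v hv
    have : u v - v ∈ Xs u D := mem_Xs.2 ⟨v, hv, rfl⟩
    rw [h, Submodule.mem_bot] at this
    exact sub_eq_zero.1 this
  · intro h
    rw [eq_bot_iff]
    rintro _ ⟨v, hv, rfl⟩
    rw [dl_apply, h v hv, sub_self]
    exact Submodule.zero_mem _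

/-- the rank is even when the values are totally singular -/
theorem Inv2.even_Xs [FiniteDimensional F V] (h : Inv2 Q u) {D : Submodule F V} (hD : Nondeg (Q.comp D.subtype))
    (hu : ∀ v ∈ D, u v ∈ D) (h0 : ∀ v ∈ D, polar Q (u v) v = 0) : Even (Module.finrank F (Xs u D)) := by
  classical
  let f : D →ₗ[F] D := (dl u).restrict (p := D) (q := D) fun v hv => D.sub_mem (hu v hv) hv
  let β : LinearMap.BilinForm F D := ((polarBilin Q).compl₁₂ D.subtype D.subtype) ∘ₗ f
  have hβ : ∀ v w : D, β v w = polar Q (u v - v) w := fun v w => rfl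
  have halt : β.IsAlt := by
    intro v
    rw [hβ, polar_sub_left, h0 v v.2, polar_self2, sub_zero]
  have h1 := Cfsg.Agent.H174.even_finrank_range_of_isAlt β halt
  have hker : LinearMap.ker β = LinearMap.ker f := by
    ext v
    rw [LinearMap.mem_ker, LinearMap.mem_ker]
    constructor
    · intro hv
      apply hD
      intro y
      have := LinearMap.congr_fun hv y
      exact this
    · intro hv
      ext w
      have h2 : u v - (v : V) = 0 := congrArg Subtype.val hv
      rw [hβ, h2, polar_zero_left]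
      rfl
  have h2 := LinearMap.finrank_range_add_finrank_ker β
  have h3 := LinearMap.finrank_range_add_finrank_ker f
  rw [hker] at h2
  have h4 : Module.finrank F (LinearMap.range f) = Module.finrank F (Xs u D) := by
    have h5 : (LinearMap.range f).map D.subtype = Xs u D := by
      ext x
      rw [Submodule.mem_map, mem_Xs]
      constructor
      · rintro ⟨_, ⟨v, rfl⟩, rfl⟩
        exact ⟨v, v.2, rfl⟩
      · rintro ⟨v, hv, rfl⟩
        exact ⟨f ⟨v, hv⟩, ⟨_, rfl⟩, rfl⟩
    rw [← h5]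
    exact (LinearEquiv.finrank_eq (Submodule.equivMapOfInjective _ D.injective_subtype _))
  have h6 : Module.finrank F (LinearMap.range β) = Module.finrank F (Xs u D) := by omega
  rw [← h6]
  exact h1

/-- `X` is totally singular -/
theorem Inv2.Xs_sing (h : Inv2 Q u) {D : Submodule F V} (h0 : ∀ v ∈ D, polar Q (u v) v = 0) :
    ∀ x ∈ Xs u D, Q x = 0 := by
  rintro _ ⟨v, hv, rfl⟩
  rw [dl_apply, h.Q_dl, h0 v hv]

theorem Inv2.Xs_polar (h : Inv2 Q u) {D : Submodule F V} :
    ∀ x ∈ Xs u D, ∀ y ∈ Xs u D, polar Q x y = 0 := by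
  intro x hx y hy
  exact h.Xs_perp hx (h.Xs_fix hy)

/-- twice the dimension -/
theorem Inv2.two_Xs [FiniteDimensional F V] (hQ : Nondeg Q) (h : Inv2 Q u) {D : Submodule F V} (hD : Nondeg (Q.comp D.subtype))
    (hu : ∀ v ∈ D, u v ∈ D) : 2 * Module.finrank F (Xs u D) ≤ Module.finrank F D := by
  have h1 : Xs u D ⊔ pp Q D ≤ pp Q (Xs u D) := by
    apply sup_le
    · intro x hx y hy
      exact h.Xs_polar y hy x hx
    · exact pp_anti (Xs_le hu)
  have h2 := Submodule.finrank_mono h1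
  have h3 := Submodule.finrank_sup_add_finrank_inf_eq (Xs u D) (pp Q D)
  have h4 : Xs u D ⊓ pp Q D = ⊥ := by
    rw [eq_bot_iff, ← (nondeg_iff D).1 hD]
    exact inf_le_inf_right _ (Xs_le hu)
  rw [h4, finrank_bot] at h3
  have h5 := finrank_pp hQ (Xs u D)
  have h6 := finrank_pp hQ D
  omega

end Cfsg.Agent.H578.RC
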