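import Cfsg.Agent.H578.RC.Fam

/-!
# S3510, row F, box E7: more linear algebra (helper578)
-/

set_option autoImplicit false
open Cfsg

namespace Cfsg.Agent.H578.RC

open QuadraticMap
open Cfsg.Agent.LieClassical.OrthCore

section gen

variable {F V : Type*} [Field F] [AddCommGroup V] [Module F V] {Q : QuadraticForm F V}

/-- complement inside a subspace -/
theorem nd_compl [FiniteDimensional F V] (hQ : Nondeg Q) {D P : Submodule F V} (hP : Nondeg (Q.comp P.subtype))
    (hD : Nondeg (Q.comp D.subtype)) (hPD : P ≤ D) :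
    Nondeg (Q.comp (D ⊓ pp Q P).subtype) ∧
      Module.finrank F P + Module.finrank F ↥(D ⊓ pp Q P) = Module.finrank F D := by
  have hsplit : ∀ y ∈ D, ∃ p ∈ P, ∃ q ∈ D ⊓ pp Q P, y = p + q := by
    intro y hy
    obtain ⟨p, hp, q, hq, rfl⟩ := exists_dec hQ hP y
    refine ⟨p, hp, q, ⟨?_, hq⟩, rfl⟩
    have : q = (p + q) - p := by abel
    rw [this]
    exact D.sub_mem hy (hPD hp)
  constructor
  · rw [nondeg_iff, eq_bot_iff]
    rintro x ⟨⟨hxD, hxP⟩, hx⟩
    have h1 : x ∈ D ⊓ pp Q D := by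
      refine ⟨hxD, fun y hy => ?_⟩
      obtain ⟨p, hp, q, hq, rfl⟩ := hsplit y hy
      rw [polar_add_left, hxP p hp, hx q hq, add_zero]
    rw [(nondeg_iff D).1 hD] at h1
    exact h1
  · have h1 := Submodule.finrank_sup_add_finrank_inf_eq P (D ⊓ pp Q P)
    have h2 : P ⊓ (D ⊓ pp Q P) = ⊥ := by
      rw [eq_bot_iff, ← (nondeg_iff P).1 hP]
      rintro x ⟨h3, -, h4⟩
      exact ⟨h3, h4⟩
    have h3 : P ⊔ (D ⊓ pp Q P) = D := by
      apply le_antisymm
      · exact sup_le hPD inf_le_left
      · intro y hy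
        obtain ⟨p, hp, q, hq, rfl⟩ := hsplit y hy
        exact Submodule.add_mem_sup hp hq
    rw [h2, h3, finrank_bot] at h1
    omega

/-- a basis of a plane -/
theorem exists_pair {L : Submodule F V} (h2 : Module.finrank F L = 2) :
    ∃ u ∈ L, ∃ w ∈ L, u ≠ 0 ∧ (∀ a : F, w ≠ a • u) ∧ Submodule.span F {u, w} = L := by
  have hfin : Module.Finite F L := Module.finite_of_finrank_pos (by omega)
  let b := Module.finBasisOfFinrankEq F L h2
  have hli := b.linearIndependent
  have h01 : LinearIndependent F ![(b 0 : L), b 1] := by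
    have : ![(b 0 : L), b 1] = b := by
      ext i
      fin_cases i <;> rfl
    rw [this]; exact hli
  rw [LinearIndependent.pair_iff] at h01
  refine ⟨b 0, (b 0).2, b 1, (b 1).2, ?_, ?_, ?_⟩
  · intro h
    have h3 := h01 1 0 (by
      rw [zero_smul, add_zero, one_smul]
      exact Subtype.ext h)
    exact one_ne_zero h3.1
  · intro a ha
    have h3 := h01 (-a) 1 (by
      rw [one_smul]
      apply Subtype.ext
      show (-a) • (b 0 : V) + (b 1 : V) = 0
      rw [ha]; module)
    exact one_ne_zero h3.2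
  · have h3 := b.span_eq
    have h4 : Set.range b = {b 0, b 1} := by
      ext v
      constructor
      · rintro ⟨i, rfl⟩
        fin_cases i
        · left; rfl
        · right; rfl
      · rintro (rfl | rfl)
        · exact ⟨0, rfl⟩
        · exact ⟨1, rfl⟩
    rw [h4] at h3
    have h5 := congrArg (Submodule.map L.subtype) h3
    rw [Submodule.map_span, Submodule.map_top, Submodule.range_subtype, Set.image_pair] at h5
    exact h5

theorem finrank_pair {u w : V} (hu : u ≠ 0) (hw : ∀ a : F, w ≠ a • u) :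
    Module.finrank F (Submodule.span F {u, w}) = 2 := by
  have hli : LinearIndependent F ![u, w] := by
    rw [LinearIndependent.pair_iff]
    intro s t h
    by_cases ht : t = 0
    · subst ht
      rw [zero_smul, add_zero] at h
      exact ⟨(smul_eq_zero.1 h).resolve_right hu, rfl⟩
    · exfalso
      apply hw (-(t⁻¹ * s))
      have h1 : t • w = -(s • u) := by rw [eq_neg_iff_add_eq_zero, add_comm]; exact h
      have h2 : w = t⁻¹ • (t • w) := by rw [smul_smul, inv_mul_cancel₀ ht, one_smul]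
      rw [h2, h1]; module
  have h := finrank_span_eq_card hli
  have h4 : Set.range ![u, w] = {u, w} := by
    ext v
    constructor
    · rintro ⟨i, rfl⟩
      fin_cases i
      · left; rfl
      · right; rfl
    · rintro (rfl | rfl)
      · exact ⟨0, rfl⟩
      · exact ⟨1, rfl⟩
  rw [h4] at h
  exact h

/-- a linear map preserving the generators preserves the plane -/
theorem span_inv {u w : V} {T : V ≃ₗ[F] V} (h1 : T u ∈ Submodule.span F {u, w})
    (h2 : T w ∈ Submodule.span F {u, w}) : ∀ v ∈ Submodule.span F {u, w}, T v ∈ Submodule.span F {u, w} := by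
  intro v hv
  obtain ⟨a, b, rfl⟩ := Submodule.mem_span_pair.1 hv
  rw [map_add, map_smul, map_smul]
  exact Submodule.add_mem _ (Submodule.smul_mem _ _ h1) (Submodule.smul_mem _ _ h2)

theorem span_sing {u w : V} (hu : Q u = 0) (hw : Q w = 0) (huw : polar Q u w = 0) :
    ∀ v ∈ Submodule.span F {u, w}, Q v = 0 := by
  intro v hv
  obtain ⟨a, b, rfl⟩ := Submodule.mem_span_pair.1 hv
  rw [Q_add, QuadraticMap.map_smul, QuadraticMap.map_smul, polar_smul_left, polar_smul_right, hu, hw, huw]
  simp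

end gen

section two

variable {F V : Type*} [Field F] [CharP F 2] [AddCommGroup V] [Module F V] {Q : QuadraticForm F V}

/-- nondegenerate subspaces have even dimension -/
theorem even_nd [FiniteDimensional F V] {D : Submodule F V} (hD : Nondeg (Q.comp D.subtype)) :
    Even (Module.finrank F D) := by
  let β : LinearMap.BilinForm F D := polarBilin (Q.comp D.subtype)
  have halt : β.IsAlt := fun v => polar_self2 v
  have h1 := Cfsg.Agent.H174.even_finrank_range_of_isAlt β halt
  have h2 := LinearMap.finrank_range_add_finrank_ker β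
  have h3 : LinearMap.ker β = ⊥ := by
    rw [LinearMap.ker_eq_bot']
    intro v hv
    exact hD v fun y => LinearMap.congr_fun hv y
  rw [h3, finrank_bot, add_zero] at h2
  rwa [h2] at h1

variable {u : V ≃ₗ[F] V} {y1 y2 x1 x2 : V}

/-- the opposite root element -/
theorem Q4.hyw (h : Q4 Q u y1 y2 x1 x2) (m : F) : polar Q y1 (m • y2) = 0 := by
  rw [polar_smul_right, h.yy, smul_zero]

theorem Q4.c_apply (h : Q4 Q u y1 y2 x1 x2) (m : F) (v : V) :
    siegel Q y1 (m • y2) h.qy1 (h.hyw m) v = v + (m * polar Q y1 v) • y2 + (m * polar Q y2 v) • y1 := by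
  rw [siegel_apply, QuadraticMap.map_smul, h.qy2, polar_smul_left, vsub_eq (F := F), vsub_eq (F := F)]
  simp only [smul_eq_mul, mul_zero, zero_mul, zero_smul, add_zero]
  module

theorem Q4.c_comm (h : Q4 Q u y1 y2 x1 x2) (m : F) {T : V ≃ₗ[F] V} (hT : T ∈ O Q) {a b c d : F}
    (hdet : a * d + b * c = 1) (h1 : T y1 = a • y1 + b • y2) (h2 : T y2 = c • y1 + d • y2) (v : V) :
    T (siegel Q y1 (m • y2) h.qy1 (h.hyw m) v) = siegel Q y1 (m • y2) h.qy1 (h.hyw m) (T v) := by
  have two : (2 : F) = 0 := two0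
  have e1 : y1 = d • T y1 + b • T y2 := by
    rw [h1, h2]
    have : d • (a • y1 + b • y2) + b • (c • y1 + d • y2) = (a * d + b * c) • y1 + (2 * (b * d)) • y2 := by module
    rw [this, hdet, two, zero_mul, zero_smul, one_smul, add_zero]
  have e2 : y2 = c • T y1 + a • T y2 := by
    rw [h1, h2]
    have : c • (a • y1 + b • y2) + a • (c • y1 + d • y2) = (a * d + b * c) • y2 + (2 * (a * c)) • y1 := by module
    rw [this, hdet, two, zero_mul, zero_smul, one_smul, add_zero]
  have p1 : polar Q y1 (T v) = d * polar Q y1 v + b * polar Q y2 v := by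
    conv_lhs => rw [e1]
    rw [polar_add_left, polar_smul_left, polar_smul_left, polar_map hT, polar_map hT, smul_eq_mul, smul_eq_mul]
  have p2 : polar Q y2 (T v) = c * polar Q y1 v + a * polar Q y2 v := by
    conv_lhs => rw [e2]
    rw [polar_add_left, polar_smul_left, polar_smul_left, polar_map hT, polar_map hT, smul_eq_mul, smul_eq_mul]
  rw [h.c_apply, h.c_apply, p1, p2, map_add, map_add, map_smul, map_smul, h1, h2]
  module

/-- `c` fixes the orthogonal space -/
theorem Q4.c_fix (h : Q4 Q u y1 y2 x1 x2) (m : F) {v : V} (h1 : polar Q y1 v = 0) (h2 : polar Q y2 v = 0) :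
    siegel Q y1 (m • y2) h.qy1 (h.hyw m) v = v := by
  rw [h.c_apply, h1, h2, mul_zero, zero_smul, zero_smul, add_zero, add_zero]

theorem Q4.c_inv (h : Q4 Q u y1 y2 x1 x2) (m : F) :
    (siegel Q y1 (m • y2) h.qy1 (h.hyw m))⁻¹ = siegel Q y1 (m • y2) h.qy1 (h.hyw m) := by
  apply inv_eq_of_mul_eq_one_left
  ext v
  show siegel Q y1 (m • y2) h.qy1 (h.hyw m) (siegel Q y1 (m • y2) h.qy1 (h.hyw m) v) = v
  rw [h.c_apply, h.c_apply]
  simp only [polar_add_right, polar_smul_right, h.yy, h.yy', polar_self_of_sing h.qy1, polar_self_of_sing h.qy2,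
    smul_eq_mul, mul_zero, add_zero]
  have h1 := vadd_self (F := F) ((m * polar Q y1 v) • y2)
  have h2 := vadd_self (F := F) ((m * polar Q y2 v) • y1)
  calc v + (m * polar Q y1 v) • y2 + (m * polar Q y2 v) • y1 + (m * polar Q y1 v) • y2 + (m * polar Q y2 v) • y1
      = v + ((m * polar Q y1 v) • y2 + (m * polar Q y1 v) • y2) + ((m * polar Q y2 v) • y1 + (m * polar Q y2 v) • y1) := by
        abel
    _ = v := by rw [h1, h2, add_zero, add_zero]

theorem Inv2.inv (hu : Inv2 Q u) : u⁻¹ = u := by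
  apply inv_eq_of_mul_eq_one_left
  ext v
  exact hu.sq v

/-- the product `c u` on `D` -/
theorem Q4.cu (h : Q4 Q u y1 y2 x1 x2) (m : F) (α β γ δ : F) :
    siegel Q y1 (m • y2) h.qy1 (h.hyw m) (u (α • y1 + β • y2 + γ • x1 + δ • x2)) =
      (α * (1 + m) + δ * m) • y1 + (β * (1 + m) + γ * m) • y2 + (β + γ) • x1 + (α + δ) • x2 := by
  have e : u (α • y1 + β • y2 + γ • x1 + δ • x2) = α • y1 + β • y2 + (β + γ) • x1 + (α + δ) • x2 := by
    simp only [map_add, map_smul, h.u1, h.u2, h.ux1, h.ux2]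
    module
  rw [e, h.c_apply]
  simp only [polar_add_right, polar_smul_right, h.yy, h.yy', h.c11, h.c12, h.c21, h.c22, polar_self_of_sing h.qy1,
    polar_self_of_sing h.qy2, smul_eq_mul, mul_one, mul_zero, add_zero, zero_add]
  module

/-- the commutator `[c,u]` -/
theorem Q4.z_apply (hu : Inv2 Q u) (h : Q4 Q u y1 y2 x1 x2) (m : F) (v : V) :
    (siegel Q y1 (m • y2) h.qy1 (h.hyw m) * u * (siegel Q y1 (m • y2) h.qy1 (h.hyw m))⁻¹ * u⁻¹) v =
      siegel Q y1 (m • y2) h.qy1 (h.hyw m) (u (siegel Q y1 (m • y2) h.qy1 (h.hyw m) (u v))) := by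
  rw [h.c_inv, hu.inv]; rfl

/-- fixed-point-free on `D` -/
theorem Q4.fpf [FiniteDimensional F V] (hu : Inv2 Q u) (h : Q4 Q u y1 y2 x1 x2) {m : F} (hm : m ≠ 0) {D : Submodule F V}
    (h4 : Module.finrank F D = 4)
    (m1 : y1 ∈ D) (m2 : y2 ∈ D) (m3 : x1 ∈ D) (m4 : x2 ∈ D) :
    Fpf (siegel Q y1 (m • y2) h.qy1 (h.hyw m) * u * (siegel Q y1 (m • y2) h.qy1 (h.hyw m))⁻¹ * u⁻¹) D ∧
    (∀ v ∈ D, (siegel Q y1 (m • y2) h.qy1 (h.hyw m) * u * (siegel Q y1 (m • y2) h.qy1 (h.hyw m))⁻¹ * u⁻¹) v ∈ D) := by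
  have two : (2 : F) = 0 := two0
  have hf : ∀ v ∈ D, (siegel Q y1 (m • y2) h.qy1 (h.hyw m) * u * (siegel Q y1 (m • y2) h.qy1 (h.hyw m))⁻¹ * u⁻¹) v =
      v + m • siegel Q y1 (m • y2) h.qy1 (h.hyw m) (u v) := by
    intro v hv
    obtain ⟨α, β, γ, δ, rfl⟩ := h.span h4 m1 m2 m3 m4 hv
    rw [h.z_apply hu, h.cu, h.cu]
    have e1 : (α * (1 + m) + δ * m) * (1 + m) + (α + δ) * m = α + m * (α * (1 + m) + δ * m) := by
      linear_combination (m * α + m * δ) * two
    have e2 : (β * (1 + m) + γ * m) * (1 + m) + (β + γ) * m = β + m * (β * (1 + m) + γ * m) := by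
      linear_combination (m * β + m * γ) * two
    have e3 : β * (1 + m) + γ * m + (β + γ) = γ + m * (β + γ) := by linear_combination β * two
    have e4 : α * (1 + m) + δ * m + (α + δ) = δ + m * (α + δ) := by linear_combination α * two
    rw [e1, e2, e3, e4]
    module
  constructor
  · intro v hv hv1
    rw [hf v hv, add_eq_left] at hv1
    have h1 := (smul_eq_zero.1 hv1).resolve_left hm
    rw [LinearEquiv.map_eq_zero_iff, LinearEquiv.map_eq_zero_iff] at h1
    exact h1
  · intro v hv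
    rw [hf v hv]
    apply D.add_mem hv
    apply D.smul_mem
    obtain ⟨α, β, γ, δ, rfl⟩ := h.span h4 m1 m2 m3 m4 hv
    rw [h.cu]
    exact D.add_mem (D.add_mem (D.add_mem (D.smul_mem _ m1) (D.smul_mem _ m2)) (D.smul_mem _ m3)) (D.smul_mem _ m4)

/-- the eigenplane for `m = b + 1/b` -/
theorem Q4.eigen (hu : Inv2 Q u) (h : Q4 Q u y1 y2 x1 x2) {b : F} (hb : b ≠ 0) {m : F} (hm : m = b + b⁻¹) :
    (siegel Q y1 (m • y2) h.qy1 (h.hyw m) * u * (siegel Q y1 (m • y2) h.qy1 (h.hyw m))⁻¹ * u⁻¹)
        ((b + 1) • y1 + x2) = (b * b) • ((b + 1) • y1 + x2) ∧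
    (siegel Q y1 (m • y2) h.qy1 (h.hyw m) * u * (siegel Q y1 (m • y2) h.qy1 (h.hyw m))⁻¹ * u⁻¹)
        ((b + 1) • y2 + x1) = (b * b) • ((b + 1) • y2 + x1) := by
  have two : (2 : F) = 0 := two0
  have hbm : m * b = b * b + 1 := by rw [hm, add_mul, inv_mul_cancel₀ hb]
  have key : (b + 1) * (1 + m) + m = b * (b + 1) := by
    have h1 : b * ((b + 1) * (1 + m) + m) = b * (b * (b + 1)) := by
      linear_combination (b + 2) * hbm + (b * b + b + 1) * two
    exact mul_left_cancel₀ hb h1
  have e1 : siegel Q y1 (m • y2) h.qy1 (h.hyw m) (u ((b + 1) • y1 + x2)) = b • ((b + 1) • y1 + x2) := by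
    have e : (b + 1) • y1 + x2 = (b + 1) • y1 + (0 : F) • y2 + (0 : F) • x1 + (1 : F) • x2 := by module
    rw [e, h.cu]
    have k1 : (b + 1) * (1 + m) + 1 * m = b * (b + 1) := by rw [one_mul]; exact key
    have k2 : b + 1 + 1 = b * 1 := by linear_combination two
    rw [k1, k2]
    module
  have e2 : siegel Q y1 (m • y2) h.qy1 (h.hyw m) (u ((b + 1) • y2 + x1)) = b • ((b + 1) • y2 + x1) := by
    have e : (b + 1) • y2 + x1 = (0 : F) • y1 + (b + 1) • y2 + (1 : F) • x1 + (0 : F) • x2 := by module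
    rw [e, h.cu]
    have k1 : (b + 1) * (1 + m) + 1 * m = b * (b + 1) := by rw [one_mul]; exact key
    have k2 : b + 1 + 1 = b * 1 := by linear_combination two
    rw [k1, k2]
    module
  constructor
  · rw [h.z_apply hu, e1, map_smul, map_smul, e1, smul_smul]
  · rw [h.z_apply hu, e2, map_smul, map_smul, e2, smul_smul]

/-- two reflections -/
theorem two_refl {a a' : V} (ha : Q a ≠ 0) (ha' : Q a' ≠ 0) (hQ : Q a' = Q a) (hp : polar Q a a' ≠ 0) :
    Fpf (refl Q a' ha' * refl Q a ha) (Submodule.span F {a, a'}) ∧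
    (∀ v ∈ Submodule.span F {a, a'}, (refl Q a' ha' * refl Q a ha) v ∈ Submodule.span F {a, a'}) ∧
    (∀ v ∈ pp Q (Submodule.span F {a, a'}), (refl Q a' ha' * refl Q a ha) v = v) ∧
    Nondeg (Q.comp (Submodule.span F {a, a'}).subtype) ∧
    Module.finrank F (Submodule.span F {a, a'}) = 2 := by
  have hma : a ∈ Submodule.span F {a, a'} := Submodule.subset_span (by simp)
  have hma' : a' ∈ Submodule.span F {a, a'} := Submodule.subset_span (by simp)
  have hind : ∀ s t : F, s • a = t • a' → s = 0 ∧ t = 0 := by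
    intro s t h
    have h1 := congrArg (fun z => polar Q a z) h
    have h2 := congrArg (fun z => polar Q a' z) h
    simp only [polar_smul_right, polar_self2, smul_eq_mul, mul_zero] at h1 h2
    rw [polar_comm Q a' a] at h2
    exact ⟨(mul_eq_zero.1 h2).resolve_right hp, (mul_eq_zero.1 h1.symm).resolve_right hp⟩
  have hnd : Nondeg (Q.comp (Submodule.span F {a, a'}).subtype) := by
    rw [nondeg_iff, eq_bot_iff]
    rintro v ⟨hv, hv'⟩
    obtain ⟨s, t, rfl⟩ := Submodule.mem_span_pair.1 hv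
    have h1 := hv' a hma
    have h2 := hv' a' hma'
    rw [polar_add_right, polar_smul_right, polar_smul_right, polar_self2, smul_zero, zero_add, smul_eq_mul] at h1
    rw [polar_add_right, polar_smul_right, polar_smul_right, polar_self2, smul_zero, add_zero, smul_eq_mul,
      polar_comm Q a' a] at h2
    rw [(mul_eq_zero.1 h1).resolve_right hp, (mul_eq_zero.1 h2).resolve_right hp]
    simp
  refine ⟨?_, ?_, ?_, hnd, ?_⟩
  · intro v hv h
    have h1 : refl Q a ha v = refl Q a' ha' v := by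
      have h2 : refl Q a' ha' ((refl Q a' ha' * refl Q a ha) v) = refl Q a ha v := by
        have h3 := LinearEquiv.congr_fun (refl_mul_self ha') (refl Q a ha v)
        exact h3
      rw [← h2, h]
    rw [refl_apply, refl_apply] at h1
    have h4 := hind _ _ (sub_right_injective h1)
    have h5 : polar Q a v = 0 := (mul_eq_zero.1 h4.1).resolve_left (inv_ne_zero ha)
    have h6 : polar Q a' v = 0 := (mul_eq_zero.1 h4.2).resolve_left (inv_ne_zero ha')
    have h7 : v ∈ Submodule.span F {a, a'} ⊓ pp Q (Submodule.span F {a, a'}) := by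
      refine ⟨hv, fun w hw => ?_⟩
      obtain ⟨s, t, rfl⟩ := Submodule.mem_span_pair.1 hw
      rw [polar_add_left, polar_smul_left, polar_smul_left, h5, h6]
      simp
    rw [(nondeg_iff _).1 hnd] at h7
    exact h7
  · intro v hv
    show refl Q a' ha' (refl Q a ha v) ∈ _
    rw [refl_apply, refl_apply]
    exact Submodule.sub_mem _ (Submodule.sub_mem _ hv (Submodule.smul_mem _ _ hma)) (Submodule.smul_mem _ _ hma')
  · intro v hv
    show refl Q a' ha' (refl Q a ha v) = v
    rw [refl_apply ha, hv a hma, mul_zero, zero_smul, sub_zero, refl_apply, hv a' hma', mul_zero, zero_smul, sub_zero]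
  · apply finrank_pair
    · rintro rfl
      exact hp (by rw [polar_zero_left])
    · intro s hs
      have h1 := hind (-s) (-1) (by rw [hs]; module)
      exact one_ne_zero (neg_eq_zero.1 h1.2)

end two

end Cfsg.Agent.H578.RC
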