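import Cfsg.Agent.H578.RC.Two
import Cfsg.Agent.H393.RC.Six

/-!
# S3510, row F, box E7: the involution moves a space on which another member is fixed-point-free (helper578)
-/

set_option autoImplicit false
open Cfsg

namespace Cfsg.Agent.H578.RC

open QuadraticMap MulAction
open Cfsg.Agent.LieClassical Cfsg.Agent.LieClassical.OrthCore Cfsg.Agent.LieClassical.OrthTrans
open Cfsg.Agent.LieClassical.OrthSimple Cfsg.Agent.ClassicalGeometry.OrthSemi
open Cfsg.Agent.ClassicalGeometry.OrthAut1 Cfsg.Agent.H106.RC Cfsg.Agent.H93.RC Cfsg.Agent.H138.RC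
open Cfsg.Agent.H393.RC

section lin

variable {F V : Type*} [Field F] [CharP F 2] [AddCommGroup V] [Module F V] {Q : QuadraticForm F V}
  {u : V ≃ₗ[F] V} {y1 y2 x1 x2 : V}

/-- the commutator `[c, u]` -/
noncomputable def Zz (h : Q4 Q u y1 y2 x1 x2) (m : F) : V ≃ₗ[F] V :=
  siegel Q y1 (m • y2) h.qy1 (h.hyw m) * u * (siegel Q y1 (m • y2) h.qy1 (h.hyw m))⁻¹ * u⁻¹

/-- `u` is a long root element if it is trivial on `D^⊥` -/
theorem Q4.eq_siegel [FiniteDimensional F V] (hQ : Nondeg Q) (h : Q4 Q u y1 y2 x1 x2) {D : Submodule F V}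
    (hDn : Nondeg (Q.comp D.subtype)) (h4 : Module.finrank F D = 4)
    (m1 : y1 ∈ D) (m2 : y2 ∈ D) (m3 : x1 ∈ D) (m4 : x2 ∈ D) (hu : ∀ v ∈ pp Q D, u v = v) (v : V) :
    u v = siegel Q x1 x2 h.qx1 h.xx v := by
  have hsl : ∀ v, siegel Q x1 x2 h.qx1 h.xx v = v + polar Q x1 v • x2 + polar Q x2 v • x1 := by
    intro v
    rw [siegel_apply, h.qx2, zero_mul, zero_smul, sub_zero, vsub_eq (F := F)]
  obtain ⟨v1, hv1, v2, hv2, rfl⟩ := exists_dec hQ hDn v
  rw [map_add, map_add]
  congr 1
  · obtain ⟨α, β, γ, δ, rfl⟩ := h.span h4 m1 m2 m3 m4 hv1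
    rw [hsl]
    simp only [map_add, map_smul, h.u1, h.u2, h.ux1, h.ux2, polar_add_right, polar_smul_right, h.b11,
      h.b12, h.b21, h.b22, h.xx, h.xx', polar_self_of_sing h.qx1, polar_self_of_sing h.qx2, smul_eq_mul,
      mul_one, mul_zero, add_zero, zero_add]
    module
  · rw [hsl, hv2 x1 m3, hv2 x2 m4, zero_smul, zero_smul, add_zero, add_zero, hu v2 hv2]

theorem Q4.x1_ne (h : Q4 Q u y1 y2 x1 x2) : x1 ≠ 0 := by
  rintro rfl
  have := h.b11
  rw [polar_zero_left] at this
  exact zero_ne_one this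

theorem Q4.x2_ind (h : Q4 Q u y1 y2 x1 x2) (t : F) : x2 ≠ t • x1 := by
  intro ht
  have := h.b22
  rw [ht, polar_smul_left, h.b12, smul_zero] at this
  exact zero_ne_one this

theorem Zz_fix (hu : Inv2 Q u) (h : Q4 Q u y1 y2 x1 x2) (m : F) {v : V} (h1 : polar Q y1 v = 0)
    (h2 : polar Q y2 v = 0) (h1' : polar Q y1 (u v) = 0) (h2' : polar Q y2 (u v) = 0) : Zz h m v = v := by
  show (siegel Q y1 (m • y2) h.qy1 (h.hyw m) * u * (siegel Q y1 (m • y2) h.qy1 (h.hyw m))⁻¹ * u⁻¹) v = v
  rw [h.z_apply hu, h.c_fix m h1' h2', hu.sq, h.c_fix m h1 h2]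

end lin

variable {F V G Ω : Type} [Field F] [Finite F] [CharP F 2] [AddCommGroup V] [Module F V] [FiniteDimensional F V]
  [Group G] [Finite G] [MulAction G Ω] [Nonempty Ω]
  {Q : QuadraticForm F V} {N : Subgroup G} {ρ : ↥(E Q) →* G} {ι : Type} [Finite ι] {x : ι → G}
  {M : ι → Gam Q} {X : ι → V ≃ₗ[F] V} {r : ι → ℕ}

/-- the family with `[c, u]` -/
theorem FC.zfam [DecidableEq ι] (h : FC Q Ω N ρ x M X r) (hinj : Function.Injective r) {i₀ : ι} (h2 : r i₀ = 2)
    {D : Submodule F V} (hDn : Nondeg (Q.comp D.subtype)) (h4 : Module.finrank F D = 4) (hDt : D ≠ ⊤)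
    (hDi : ∀ i, ∀ v ∈ D, X i v ∈ D) {y1 y2 x1 x2 : V} (hq : Q4 Q (X i₀) y1 y2 x1 x2)
    (m1 : y1 ∈ D) (m2 : y2 ∈ D) (m3 : x1 ∈ D) (m4 : x2 ∈ D) {m : F} (hm : m ≠ 0) :
    (∀ v ∈ pp Q D, Zz hq m v = v) ∧ ∃ (k : ℕ) (ℓ : ℕ) (x' : ι → G) (M' : ι → Gam Q), ℓ ≠ 2 ∧
      FC Q Ω N ρ x' M' (Function.update X i₀ (Zz hq m ^ k)) (Function.update r i₀ ℓ) := by
  have hu := h.inv2 h2
  have hQ := h.nondeg
  have hfix : ∀ v ∈ pp Q D, Zz hq m v = v := by
    intro v hv
    have hv' := inv_pp hu.iso (hDi i₀) v hv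
    exact Zz_fix hu hq m (hv y1 m1) (hv y2 m2) (hv' y1 m1) (hv' y2 m2)
  refine ⟨hfix, ?_⟩
  obtain ⟨hf, hinv⟩ := hq.fpf hu hm h4 m1 m2 m3 m4
  let c : ↥(E Q) := ⟨siegel Q y1 (m • y2) hq.qy1 (hq.hyw m), siegel_mem_E _ _⟩
  have hc : ∀ j, j ≠ i₀ → ∀ v, X j ((c : V ≃ₗ[F] V) v) = (c : V ≃ₗ[F] V) (X j v) := by
    intro j hj v
    have hodd : r j ≠ 2 := fun h3 => hj (hinj (h3.trans h2.symm))
    obtain ⟨a, b, c', d, hdet, e1, e2, -, -⟩ := hq.pres hu h4 m1 m2 m3 m4 (h.iso j) (h.cm j i₀) (hDi j) (h.odd hodd)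
      (h.pow_one j)
    exact hq.c_comm m (h.iso j) hdet e1 e2 v
  have hD0 : D ≠ ⊥ := by
    rintro rfl
    rw [finrank_bot] at h4
    omega
  obtain ⟨k, ℓ, x', M', hℓ, -, hFC⟩ := h.mv i₀ c hc (Zz hq m) rfl D hD0 hinv hf (by
    have hne : pp Q D ≠ ⊥ := by
      intro h0
      have h3 := sup_pp hQ hDn
      rw [h0, sup_bot_eq] at h3
      exact hDt h3
    obtain ⟨y, hy, hy0⟩ := (pp Q D).ne_bot_iff.1 hne
    exact ⟨y, hy0, hfix y hy⟩)
  exact ⟨k, ℓ, x', M', hℓ, hFC⟩

/-- the new family has no member of order 2 -/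
theorem upd_ne_two [DecidableEq ι] {r : ι → ℕ} (hinj : Function.Injective r) {i₀ : ι} (h2 : r i₀ = 2) {ℓ : ℕ}
    (hℓ : ℓ ≠ 2) (i : ι) : Function.update r i₀ ℓ i ≠ 2 := by
  by_cases hi : i = i₀
  · subst hi
    rw [Function.update_self]; exact hℓ
  · rw [Function.update_of_ne hi]
    exact fun h3 => hi (hinj (h3.trans h2.symm))

/-- **case (I)** -/
theorem FC.caseI (h : FC Q Ω N ρ x M X r) (hinj : Function.Injective r) (i₀ : ι) (h2 : r i₀ = 2)
    (h8 : 8 ≤ Module.finrank F V) {D : Submodule F V} (hDn : Nondeg (Q.comp D.subtype)) (hDt : D ≠ ⊤)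
    (hDi : ∀ i, ∀ v ∈ D, X i v ∈ D) {j : ι} (hj : j ≠ i₀) (hf : Fpf (X j) D) (hnt : Nt (X i₀) D)
    (hjD : (∀ v ∈ pp Q D, X j v = v) ∨ Fpf (X j) (pp Q D)) : False := by
  classical
  have hQ := h.nondeg
  have hu := h.inv2 h2
  have hodd : ∀ i, i ≠ i₀ → r i ≠ 2 := fun i hi h3 => hi (hinj (h3.trans h2.symm))
  have h0 : ∀ v ∈ D, polar Q (X i₀ v) v = 0 := fun v hv =>
    hu.zero_of_fpf (h.iso j) (h.cm j i₀) (hDi j) hf hv
  have hev := hu.even_Xs hDn (hDi i₀) h0
  have htw := hu.two_Xs hQ hDn (hDi i₀)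
  have hX0 : Module.finrank F (Xs (X i₀) D) ≠ 0 := by
    intro h3
    rw [Submodule.finrank_eq_zero, Xs_eq_bot] at h3
    exact (not_Nt.2 h3) hnt
  have hXi : ∀ i, ∀ v ∈ Xs (X i₀) D, X i v ∈ Xs (X i₀) D := fun i => Xs_inv (h.cm i i₀) (hDi i)
  have hfX : Fpf (X j) (Xs (X i₀) D) := fun v hv => hf v (Xs_le (hDi i₀) hv)
  have hp1 : ∀ i, r i = 2 → i = i₀ := fun i hi => hinj (hi.trans h2.symm)
  by_cases h5 : 5 ≤ Module.finrank F D
  · refine h.box_A D hDn h5 hDt hDi ⟨i₀, hnt⟩ (fun i k _ _ hik => hinj hik) (fun i hi => by rw [hp1 i hi]; exact hnt)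
      (Or.inl ?_)
    rintro ⟨hF, h6, U, hUD, hU, hU3⟩
    have hX2 : Module.finrank F (Xs (X i₀) D) = 2 := by
      obtain ⟨k, hk⟩ := hev
      omega
    have hd := fpf_dvd hF (hXi j) hfX (h.cv.prime j) (h.pow_one j)
    rw [hX2] at hd
    have h3 : r j = 3 := (Nat.prime_dvd_prime_iff_eq (h.cv.prime j) Nat.prime_three).1 hd
    have hT3 := h.pow_one j
    rw [h3] at hT3
    exact no_six hF hDn h6 (h.iso j) (hDi j) hf hT3 hUD hU hU3
  · have h4 : Module.finrank F D = 4 := by
      obtain ⟨k, hk⟩ := hev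
      omega
    have hX2 : Module.finrank F (Xs (X i₀) D) = 2 := by
      obtain ⟨k, hk⟩ := hev
      omega
    obtain ⟨y1, m1, y2, m2, x1, m3, x2, m4, hq⟩ := exists_Q4 hu hDn (hDi i₀) h0 hnt
    have hD'i : ∀ i, ∀ v ∈ pp Q D, X i v ∈ pp Q D := fun i => inv_pp (h.iso i) (hDi i)
    have hD'n := nondeg_pp hQ hDn
    by_cases hD' : Nt (X i₀) (pp Q D)
    swap
    · rw [not_Nt] at hD'
      refine h.no_long i₀ hodd hq.qx1 hq.qx2 hq.xx hq.x1_ne hq.x2_ind
        (hq.eq_siegel hQ hDn h4 m1 m2 m3 m4 hD') ?_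
      intro i hi
      obtain ⟨a, b, c, d, -, -, -, e3, e4⟩ := hq.pres hu h4 m1 m2 m3 m4 (h.iso i) (h.cm i i₀) (hDi i)
        (h.odd (hodd i hi)) (h.pow_one i)
      apply span_inv
      · rw [e3]; exact Submodule.mem_span_pair.2 ⟨d, c, rfl⟩
      · rw [e4]; exact Submodule.mem_span_pair.2 ⟨b, a, rfl⟩
    by_cases hF : Nat.card F = 2
    swap
    · -- `q ≥ 4`
      obtain ⟨b, hb0, hb1⟩ : ∃ b : F, b ≠ 0 ∧ b ≠ 1 := by
        by_contra hno
        push Not at hno
        apply hF
        have : Fintype F := Fintype.ofFinite F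
        rw [Nat.card_eq_fintype_card]
        apply le_antisymm
        · have h1 : (Finset.univ : Finset F) ⊆ {0, 1} := by
            intro b _
            by_cases hb : b = 0
            · simp [hb]
            · simp [hno b hb]
          have h3 := Finset.card_le_card h1
          rw [Finset.card_univ] at h3
          exact h3.trans (Finset.card_le_two)
        · exact Fintype.one_lt_card
      have hm : b + b⁻¹ ≠ 0 := by
        intro h1
        have h3 : b * b + 1 = 0 := by
          have := congrArg (fun t => t * b) h1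
          simpa [add_mul, inv_mul_cancel₀ hb0] using this
        have h3' : (b + 1) * (b + 1) = 0 := by
          have two : (2 : F) = 0 := two0
          linear_combination h3 + b * two
        have h3'' := mul_self_eq_zero.1 h3'
        apply hb1
        have h6 : (1 : F) + 1 = 0 := CharTwo.add_self_eq_zero 1
        linear_combination h3'' - h6
      obtain ⟨hzf, k, ℓ, x', M', hℓ, hFC⟩ := h.zfam hinj h2 hDn h4 hDt hDi hq m1 m2 m3 m4 hm
      obtain ⟨g1, g2⟩ := hq.eigen hu hb0 rfl
      have hb1' : b + 1 ≠ 0 := by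
        intro h3
        apply hb1
        have h6 : (1 : F) + 1 = 0 := CharTwo.add_self_eq_zero 1
        linear_combination h3 - h6
      have hmem1 : (b + 1) • y1 + x2 ∈ Submodule.span F {(b + 1) • y1 + x2, (b + 1) • y2 + x1} :=
        Submodule.subset_span (by simp)
      have hmem2 : (b + 1) • y2 + x1 ∈ Submodule.span F {(b + 1) • y1 + x2, (b + 1) • y2 + x1} :=
        Submodule.subset_span (by simp)
      refine hFC.no_plane (upd_ne_two hinj h2 hℓ) (L := Submodule.span F {(b + 1) • y1 + x2, (b + 1) • y2 + x1}) ?_ ?_ ?_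
      · apply span_sing
        · rw [Q_add, QuadraticMap.map_smul, hq.qy1, hq.qx2, polar_smul_left, hq.c12]; simp
        · rw [Q_add, QuadraticMap.map_smul, hq.qy2, hq.qx1, polar_smul_left, hq.c21]; simp
        · rw [polar_add_left, polar_add_right, polar_add_right, polar_smul_left, polar_smul_left, polar_smul_right,
            polar_smul_right, hq.yy, hq.c11, hq.b22, hq.xx']
          simp only [smul_eq_mul, mul_zero, mul_one, zero_add, add_zero]
          exact CharTwo.add_self_eq_zero _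
      · apply finrank_pair
        · intro h3
          have h6 := congrArg (fun t => polar Q x1 t) h3
          simp only [polar_add_right, polar_smul_right, hq.b11, hq.xx, polar_zero_right, smul_eq_mul, mul_one,
            add_zero] at h6
          exact hb1' h6
        · intro t h3
          have h6 := congrArg (fun t => polar Q x2 t) h3
          simp only [polar_add_right, polar_smul_right, hq.b22, hq.b21, hq.xx', polar_self_of_sing hq.qx2,
            smul_eq_mul, mul_one, mul_zero, add_zero] at h6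
          exact hb1' h6
      · intro i
        by_cases hi : i = i₀
        · subst hi
          rw [Function.update_self]
          apply pow_inv
          apply span_inv
          · show (siegel Q y1 ((b + b⁻¹) • y2) hq.qy1 (hq.hyw (b + b⁻¹)) * X i *
              (siegel Q y1 ((b + b⁻¹) • y2) hq.qy1 (hq.hyw (b + b⁻¹)))⁻¹ * (X i)⁻¹) ((b + 1) • y1 + x2) ∈ _
            rw [g1]
            exact Submodule.smul_mem _ _ hmem1
          · show (siegel Q y1 ((b + b⁻¹) • y2) hq.qy1 (hq.hyw (b + b⁻¹)) * X i *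
              (siegel Q y1 ((b + b⁻¹) • y2) hq.qy1 (hq.hyw (b + b⁻¹)))⁻¹ * (X i)⁻¹) ((b + 1) • y2 + x1) ∈ _
            rw [g2]
            exact Submodule.smul_mem _ _ hmem2
        · rw [Function.update_of_ne hi]
          obtain ⟨a, b', c, d, -, e1, e2, e3, e4⟩ := hq.pres hu h4 m1 m2 m3 m4 (h.iso i) (h.cm i i₀) (hDi i)
            (h.odd (hodd i hi)) (h.pow_one i)
          apply span_inv
          · refine Submodule.mem_span_pair.2 ⟨a, b', ?_⟩
            rw [map_add, map_smul, e1, e4]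
            module
          · refine Submodule.mem_span_pair.2 ⟨c, d, ?_⟩
            rw [map_add, map_smul, e2, e3]
            module
    -- `q = 2`
    have hd := fpf_dvd hF (hXi j) hfX (h.cv.prime j) (h.pow_one j)
    rw [hX2] at hd
    have hrj : r j = 3 := (Nat.prime_dvd_prime_iff_eq (h.cv.prime j) Nat.prime_three).1 hd
    have hT3 := h.pow_one j
    rw [hrj] at hT3
    -- no other member is fixed-point-free on a plane
    have hpl : ∀ k, k ≠ j → ∀ W : Submodule F V, Module.finrank F W = 2 → (∀ v ∈ W, X k v ∈ W) →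
        ¬ Fpf (X k) W := by
      intro k hk W hW2 hW hfk
      have hd := fpf_dvd hF hW hfk (h.cv.prime k) (h.pow_one k)
      rw [hW2] at hd
      exact hk (hinj (((Nat.prime_dvd_prime_iff_eq (h.cv.prime k) Nat.prime_three).1 hd).trans hrj.symm))
    obtain ⟨hzf, k₀, ℓ, x', M', hℓ, hFC⟩ := h.zfam hinj h2 hDn h4 hDt hDi hq m1 m2 m3 m4 (one_ne_zero)
    obtain ⟨z, hz⟩ : ∃ z, z = Zz hq 1 := ⟨_, rfl⟩
    rw [← hz] at hzf hFC
    have hupd : ∀ i, i ≠ i₀ → Function.update X i₀ (z ^ k₀) i = X i := fun i hi => Function.update_of_ne hi _ _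
    have hupr : ∀ i, i ≠ i₀ → Function.update r i₀ ℓ i = r i := fun i hi => Function.update_of_ne hi _ _
    have hzk : ∀ v ∈ pp Q D, (z ^ k₀) v = v := fun v hv => pow_apply_of (hzf v hv) k₀
    have hnt0 : ¬ Nt (Function.update X i₀ (z ^ k₀) i₀) (pp Q D) := by
      rw [Function.update_self, not_Nt]; exact hzk
    have hn := finrank_pp hQ D
    have hev' := even_nd hD'n
    -- members different from `j` acting nontrivially on `D^⊥`
    have hKK : ∀ k, k ≠ i₀ → k ≠ j → Nt (X k) (pp Q D) → Module.finrank F (pp Q D) ≤ 6 →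
        Module.finrank F (Xs (X k) (pp Q D)) = 4 ∧ Module.finrank F (pp Q D) ≠ 4 := by
      intro k hk0 hkj hnk h6
      have hoddk := h.odd (hodd k hk0)
      obtain ⟨k1, k2, k3, k4⟩ := nt_fpf hoddk (h.pow_one k) (hD'i k)
      have hKn := nd_Xs (h.iso k) hoddk (h.pow_one k) (hD'i k) hD'n
      have hKe := even_nd hKn
      have hKle := Submodule.finrank_mono k3
      have hK0 : Module.finrank F (Xs (X k) (pp Q D)) ≠ 0 := fun h3 => k4 hnk (Submodule.finrank_eq_zero.1 h3)
      have hK2 : Module.finrank F (Xs (X k) (pp Q D)) ≠ 2 := fun h3 => hpl k hkj _ h3 k2 k1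
      have hKlt : Module.finrank F (Xs (X k) (pp Q D)) ≠ Module.finrank F (pp Q D) := by
        intro h3
        have heq : Xs (X k) (pp Q D) = pp Q D := Submodule.eq_of_le_of_finrank_eq k3 h3
        have hfk : Fpf (X k) (pp Q D) := by rw [← heq]; exact k1
        have h0' : ∀ v ∈ pp Q D, polar Q (X i₀ v) v = 0 := fun v hv =>
          hu.zero_of_fpf (h.iso k) (h.cm k i₀) (hD'i k) hfk hv
        have hev2 := hu.even_Xs hD'n (hD'i i₀) h0'
        have htw2 := hu.two_Xs hQ hD'n (hD'i i₀)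
        have hX0' : Module.finrank F (Xs (X i₀) (pp Q D)) ≠ 0 := by
          intro h7
          rw [Submodule.finrank_eq_zero, Xs_eq_bot] at h7
          exact (not_Nt.2 h7) hD'
        have hX2' : Module.finrank F (Xs (X i₀) (pp Q D)) = 2 := by
          obtain ⟨t, ht⟩ := hev2
          omega
        exact hpl k hkj _ hX2' (Xs_inv (h.cm k i₀) (hD'i k)) (fun v hv => hfk v (Xs_le (hD'i i₀) hv))
      obtain ⟨t, ht⟩ := hKe
      obtain ⟨t', ht'⟩ := hev'
      constructor <;> omega
    have hD't : pp Q D ≠ ⊤ := by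
      intro h3
      rw [h3, finrank_top] at hn
      omega
    by_cases h5' : 5 ≤ Module.finrank F (pp Q D)
    · by_cases hK : ∃ k, k ≠ i₀ ∧ Nt (X k) (pp Q D)
      · by_cases hex : Module.finrank F (pp Q D) = 6 ∧ ∃ U : Submodule F V, U ≤ pp Q D ∧ (∀ v ∈ U, Q v = 0) ∧
            Module.finrank F U = 3
        · -- all the members different from `u` acting nontrivially have order 5
          obtain ⟨h6, U, hUD, hU, hU3⟩ := hex
          have h5k : ∀ k, k ≠ i₀ → Nt (X k) (pp Q D) → r k = 5 := by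
            intro k hk0 hnk
            by_cases hkj : k = j
            · exfalso
              subst hkj
              rcases hjD with h7 | h7
              · exact (not_Nt.2 h7) hnk
              · exact no_six hF hD'n h6 (h.iso k) (hD'i k) h7 hT3 hUD hU hU3
            · have h7 := (hKK k hk0 hkj hnk (by omega)).1
              obtain ⟨k1, k2, -, -⟩ := nt_fpf (h.odd (hodd k hk0)) (h.pow_one k) (hD'i k)
              have hd := fpf_dvd hF k2 k1 (h.cv.prime k) (h.pow_one k)
              rw [h7] at hd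
              have hd' : r k ∣ 3 * 5 := hd
              rcases (h.cv.prime k).dvd_mul.1 hd' with h8' | h8'
              · exfalso
                exact hkj (hinj (((Nat.prime_dvd_prime_iff_eq (h.cv.prime k) Nat.prime_three).1 h8').trans hrj.symm))
              · exact (Nat.prime_dvd_prime_iff_eq (h.cv.prime k) Nat.prime_five).1 h8'
          obtain ⟨k, hk0, hnk⟩ := hK
          have hback : ∀ i, Nt (Function.update X i₀ (z ^ k₀) i) (pp Q D) → i ≠ i₀ ∧ Nt (X i) (pp Q D) := by
            intro i hi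
            have hi0 : i ≠ i₀ := by rintro rfl; exact hnt0 hi
            rw [hupd i hi0] at hi
            exact ⟨hi0, hi⟩
          refine hFC.box_A (pp Q D) hD'n h5' hD't ?_ ⟨k, by rw [hupd k hk0]; exact hnk⟩ ?_
            (fun i hi => absurd hi (upd_ne_two hinj h2 hℓ i)) (Or.inr ?_)
          · intro i
            by_cases hi : i = i₀
            · subst hi
              rw [Function.update_self]
              intro v hv
              rw [hzk v hv]; exact hv
            · rw [hupd i hi]; exact hD'i i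
          · intro i i' hi hi' hii
            obtain ⟨a1, a2⟩ := hback i hi
            obtain ⟨b1, b2⟩ := hback i' hi'
            exact hinj ((h5k i a1 a2).trans (h5k i' b1 b2).symm)
          · intro i i' hi hi'
            obtain ⟨a1, a2⟩ := hback i hi
            obtain ⟨b1, b2⟩ := hback i' hi'
            exact hinj ((h5k i a1 a2).trans (h5k i' b1 b2).symm)
        · refine h.box_A (pp Q D) hD'n h5' hD't hD'i ⟨i₀, hD'⟩ (fun i k _ _ hik => hinj hik)
            (fun i hi => by rw [hp1 i hi]; exact hD') (Or.inl ?_)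
          rintro ⟨-, h6, hU⟩
          exact hex ⟨h6, hU⟩
      · push Not at hK
        refine h.box_A (pp Q D) hD'n h5' hD't hD'i ⟨i₀, hD'⟩ (fun i k _ _ hik => hinj hik)
          (fun i hi => by rw [hp1 i hi]; exact hD') (Or.inr ?_)
        have huniq : ∀ i, Nt (X i) (pp Q D) → i = i₀ := by
          intro i hi
          by_contra hi0
          exact hK i hi0 hi
        intro i i' hi hi'
        rw [huniq i hi, huniq i' hi']
    · have h4' : Module.finrank F (pp Q D) = 4 := by
        obtain ⟨t, ht⟩ := hev'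
        omega
      -- the plane `(u - 1) D^⊥`
      have hfin : (∀ v ∈ pp Q D, polar Q (X i₀ v) v = 0) → False := by
        intro h0'
        have hev2 := hu.even_Xs hD'n (hD'i i₀) h0'
        have htw2 := hu.two_Xs hQ hD'n (hD'i i₀)
        have hX0' : Module.finrank F (Xs (X i₀) (pp Q D)) ≠ 0 := by
          intro h7
          rw [Submodule.finrank_eq_zero, Xs_eq_bot] at h7
          exact (not_Nt.2 h7) hD'
        have hX2' : Module.finrank F (Xs (X i₀) (pp Q D)) = 2 := by
          obtain ⟨t, ht⟩ := hev2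
          omega
        refine hFC.no_plane (upd_ne_two hinj h2 hℓ) (L := Xs (X i₀) (pp Q D)) (hu.Xs_sing h0') hX2' ?_
        intro i
        by_cases hi : i = i₀
        · subst hi
          rw [Function.update_self]
          intro v hv
          rw [hzk v (Xs_le (hD'i i) hv)]; exact hv
        · rw [hupd i hi]
          exact Xs_inv (h.cm i i₀) (hD'i i)
      by_cases hK : ∃ k, k ≠ i₀ ∧ Nt (X k) (pp Q D)
      · obtain ⟨k, hk0, hnk⟩ := hK
        by_cases hkj : k = j
        · subst hkj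
          rcases hjD with h7 | h7
          · exact (not_Nt.2 h7) hnk
          · exact hfin fun v hv => hu.zero_of_fpf (h.iso k) (h.cm k i₀) (hD'i k) h7 hv
        · exact (hKK k hk0 hkj hnk (by omega)).2 h4'
      · push Not at hK
        have hK' : ∀ k, k ≠ i₀ → ∀ v ∈ pp Q D, X k v = v := fun k hk => not_Nt.1 (hK k hk)
        by_cases hex : ∃ v ∈ pp Q D, polar Q (X i₀ v) v ≠ 0
        · exact h.rot hinj i₀ h2 h8 hD'n h4' (hD'i i₀) hK' hex
        · push Not at hex
          exact hfin hex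

end Cfsg.Agent.H578.RC
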