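import Cfsg.Agent.H578.RC.Rul
import Cfsg.Agent.H138.RC.Two

/-!
# S3510, row F, box E7: the involution is trivial on the moved part of the others (helper578)
-/

set_option autoImplicit false
open Cfsg

namespace Cfsg.Agent.H578.RC

open QuadraticMap MulAction
open Cfsg.Agent.LieClassical Cfsg.Agent.LieClassical.OrthCore Cfsg.Agent.LieClassical.OrthTrans
open Cfsg.Agent.LieClassical.OrthSimple Cfsg.Agent.ClassicalGeometry.OrthSemi
open Cfsg.Agent.ClassicalGeometry.OrthAut1 Cfsg.Agent.H106.RC Cfsg.Agent.H93.RC Cfsg.Agent.H138.RC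

section lin

variable {F V : Type*} [Field F] [CharP F 2] [AddCommGroup V] [Module F V] {Q : QuadraticForm F V}

theorem nd_pair {a a' : V} (hp : polar Q a a' ≠ 0) :
    Nondeg (Q.comp (Submodule.span F {a, a'}).subtype) ∧ Module.finrank F (Submodule.span F {a, a'}) = 2 := by
  have hma : a ∈ Submodule.span F {a, a'} := Submodule.subset_span (by simp)
  have hma' : a' ∈ Submodule.span F {a, a'} := Submodule.subset_span (by simp)
  constructor
  · rw [nondeg_iff, eq_bot_iff]
    rintro v ⟨hv, hv'⟩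
    obtain ⟨s, t, rfl⟩ := Submodule.mem_span_pair.1 hv
    have h1 := hv' a hma
    have h2 := hv' a' hma'
    rw [polar_add_right, polar_smul_right, polar_smul_right, polar_self2, smul_zero, zero_add, smul_eq_mul] at h1
    rw [polar_add_right, polar_smul_right, polar_smul_right, polar_self2, smul_zero, add_zero, smul_eq_mul,
      polar_comm Q a' a] at h2
    rw [(mul_eq_zero.1 h1).resolve_right hp, (mul_eq_zero.1 h2).resolve_right hp]
    simp
  · apply finrank_pair
    · rintro rfl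
      exact hp (by rw [polar_zero_left])
    · intro s hs
      apply hp
      rw [hs, polar_smul_right, polar_self2, smul_zero]

/-- an isometry fixing `e` and `b` commutes with `siegel e b` -/
theorem siegel_comm {e b : V} (he : Q e = 0) (heb : polar Q e b = 0) {T : V ≃ₗ[F] V} (hT : T ∈ O Q) (h1 : T e = e)
    (h2 : T b = b) (v : V) : T (siegel Q e b he heb v) = siegel Q e b he heb (T v) := by
  have p1 : polar Q e (T v) = polar Q e v := by
    conv_lhs => rw [← h1]
    rw [polar_map hT]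
  have p2 : polar Q b (T v) = polar Q b v := by
    conv_lhs => rw [← h2]
    rw [polar_map hT]
  rw [siegel_apply, siegel_apply, p1, p2, map_sub, map_sub, map_add, map_smul, map_smul, map_smul, h1, h2]

/-- nondegenerate spaces contain nonsingular vectors -/
theorem exists_ns {D : Submodule F V} (hD : Nondeg (Q.comp D.subtype)) (h0 : D ≠ ⊥) : ∃ b ∈ D, Q b ≠ 0 := by
  by_contra hno
  push Not at hno
  apply h0
  rw [eq_bot_iff]
  intro v hv
  have h1 := hD ⟨v, hv⟩ fun y => by
    show polar Q v y = 0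
    rw [polar, hno _ (D.add_mem hv y.2), hno v hv, hno y y.2]
    simp
  exact congrArg Subtype.val h1

/-- a fixed nonsingular vector in a nondegenerate plane -/
theorem exists_fixed_ns [FiniteDimensional F V] (hQ : Nondeg Q) {u : V ≃ₗ[F] V} (hu : Inv2 Q u) {R : Submodule F V}
    (hR : Nondeg (Q.comp R.subtype)) (h2 : Module.finrank F R = 2) (huR : ∀ v ∈ R, u v ∈ R) :
    ∃ b ∈ R, Q b ≠ 0 ∧ u b = b := by
  by_cases h : ∃ w ∈ R, polar Q (u w) w ≠ 0
  · obtain ⟨w, hw, hw1⟩ := h
    exact ⟨u w - w, R.sub_mem (huR w hw) hw, by rw [hu.Q_dl]; exact hw1, hu.dl_dl w⟩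
  · push Not at h
    have h1 := hu.even_Xs hR huR h
    have h3 := hu.two_Xs hQ hR huR
    have h4 : Module.finrank F (Xs u R) = 0 := by
      obtain ⟨k, hk⟩ := h1
      omega
    rw [Submodule.finrank_eq_zero, Xs_eq_bot] at h4
    have h0 : R ≠ ⊥ := by
      rintro rfl
      rw [finrank_bot] at h2
      omega
    obtain ⟨b, hb, hb1⟩ := exists_ns hR h0
    exact ⟨b, hb, hb1, h4 b hb⟩

theorem exists_sqrt [Finite F] (a : F) : ∃ κ : F, κ * κ = a := by
  have := Fintype.ofFinite F
  have h2 : ringChar F = 2 := ringChar.eq F 2 ▸ rfl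
  obtain ⟨κ, hκ⟩ := FiniteField.isSquare_of_char_two h2 a
  exact ⟨κ, hκ.symm⟩

end lin

variable {F V G Ω : Type} [Field F] [Finite F] [CharP F 2] [AddCommGroup V] [Module F V] [FiniteDimensional F V]
  [Group G] [Finite G] [MulAction G Ω] [Nonempty Ω]
  {Q : QuadraticForm F V} {N : Subgroup G} {ρ : ↥(E Q) →* G} {ι : Type} [Finite ι] {x : ι → G}
  {M : ι → Gam Q} {X : ι → V ≃ₗ[F] V} {r : ι → ℕ}

/-- another member -/
theorem FC.other (h : FC Q Ω N ρ x M X r) (i₀ : ι) : ∃ j, j ≠ i₀ := h.cv.cov.two h.cv.env h.cv.ne i₀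

/-- **case (II')**: a four-dimensional space fixed by the other members, on which `u` is not a long root element -/
theorem FC.rot (h : FC Q Ω N ρ x M X r) (hinj : Function.Injective r) (i₀ : ι) (h2 : r i₀ = 2)
    (h8 : 8 ≤ Module.finrank F V) {D : Submodule F V} (hDn : Nondeg (Q.comp D.subtype))
    (h4 : Module.finrank F D = 4) (hDu : ∀ v ∈ D, X i₀ v ∈ D) (hDX : ∀ j, j ≠ i₀ → ∀ v ∈ D, X j v = v)
    (hex : ∃ v ∈ D, polar Q (X i₀ v) v ≠ 0) : False := by
  classical
  obtain ⟨v, hv, hv1⟩ := hex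
  have hu := h.inv2 h2
  have hQ := h.nondeg
  obtain ⟨u, hudef⟩ : ∃ u, u = X i₀ := ⟨_, rfl⟩
  rw [← hudef] at hu hv1 hDu
  obtain ⟨a, hadef⟩ : ∃ a, a = u v - v := ⟨_, rfl⟩
  have haD : a ∈ D := by rw [hadef]; exact D.sub_mem (hDu v hv) hv
  have hQa : Q a = polar Q (u v) v := by rw [hadef, hu.Q_dl]
  have hQa0 : Q a ≠ 0 := by rw [hQa]; exact hv1
  have hua : u a = a := by rw [hadef]; exact hu.dl_dl v
  have huv : u v = v + a := by rw [hadef]; abel
  have hav : polar Q a v = Q a := by rw [hQa, hadef, polar_sub_left, polar_self2, sub_zero]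
  have hva : polar Q v a = Q a := by rw [polar_comm]; exact hav
  have hva0 : polar Q v a ≠ 0 := by rw [hva]; exact hQa0
  -- the plane `⟨v, a⟩`
  obtain ⟨hPn, hP2⟩ := nd_pair hva0
  have hvP : v ∈ Submodule.span F {v, a} := Submodule.subset_span (by simp)
  have haP : a ∈ Submodule.span F {v, a} := Submodule.subset_span (by simp)
  have hPD : Submodule.span F {v, a} ≤ D := by
    rw [Submodule.span_le]
    rintro w (rfl | rfl)
    · exact hv
    · exact haD
  obtain ⟨hRn, hR2⟩ := nd_compl hQ hPn hDn hPD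
  rw [hP2, h4] at hR2
  have huP : ∀ w ∈ Submodule.span F {v, a}, u w ∈ Submodule.span F {v, a} := by
    apply span_inv
    · rw [huv]; exact Submodule.add_mem _ hvP haP
    · rw [hua]; exact haP
  have huR : ∀ w ∈ D ⊓ pp Q (Submodule.span F {v, a}), u w ∈ D ⊓ pp Q (Submodule.span F {v, a}) :=
    fun w hw => ⟨hDu w hw.1, inv_pp hu.iso huP w hw.2⟩
  obtain ⟨b, ⟨hbD, hbP⟩, hb0, hub⟩ := exists_fixed_ns hQ hu hRn (by omega) huR
  have hvb : polar Q v b = 0 := hbP v hvP
  have hab : polar Q a b = 0 := hbP a haP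
  have hba : polar Q b a = 0 := by rw [polar_comm]; exact hab
  obtain ⟨κ, hκ⟩ := exists_sqrt (Q v / Q b)
  obtain ⟨e, hedef⟩ : ∃ e, e = v + κ • b := ⟨_, rfl⟩
  have heD : e ∈ D := by rw [hedef]; exact D.add_mem hv (D.smul_mem _ hbD)
  have he : Q e = 0 := by
    rw [hedef, Q_add, QuadraticMap.map_smul, hκ, polar_smul_right, hvb, smul_zero, add_zero, smul_eq_mul,
      div_mul_cancel₀ _ hb0]
    exact CharTwo.add_self_eq_zero _
  have heb : polar Q e b = 0 := by
    rw [hedef, polar_add_left, hvb, polar_smul_left, polar_self2, smul_zero, add_zero]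
  have hea : polar Q e a = Q a := by
    rw [hedef, polar_add_left, hva, polar_smul_left, hba, smul_zero, add_zero]
  let c : ↥(E Q) := ⟨siegel Q e b he heb, siegel_mem_E he heb⟩
  have hcc : (c : V ≃ₗ[F] V) = siegel Q e b he heb := rfl
  -- the second factor of `u`
  obtain ⟨w, hw⟩ : ∃ w, w = refl Q a hQa0 * u := ⟨_, rfl⟩
  have hwO : w ∈ O Q := by rw [hw]; exact (O Q).mul_mem (refl_mem_O _) hu.iso
  have hraa : refl Q a hQa0 a = a := by rw [refl_apply, polar_self2, mul_zero, zero_smul, sub_zero]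
  have hrav : refl Q a hQa0 v = v - a := by rw [refl_apply, hav, inv_mul_cancel₀ hQa0, one_smul]
  have hrab : refl Q a hQa0 b = b := by rw [refl_apply, hab, mul_zero, zero_smul, sub_zero]
  have hwv : w v = v := by
    rw [hw]
    show refl Q a hQa0 (u v) = v
    rw [huv, map_add, hraa, hrav]; abel
  have hwb : w b = b := by
    rw [hw]
    show refl Q a hQa0 (u b) = b
    rw [hub, hrab]
  have hwe : w e = e := by rw [hedef, map_add, map_smul, hwv, hwb]
  have hcw : (c : V ≃ₗ[F] V) * w = w * (c : V ≃ₗ[F] V) := by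
    ext y
    exact (siegel_comm he heb hwO hwe hwb y).symm
  -- the new vector
  obtain ⟨a', ha'def⟩ : ∃ a', a' = (c : V ≃ₗ[F] V) a := ⟨_, rfl⟩
  have hQa' : Q a' = Q a := by rw [ha'def]; exact E_le_O c.2 a
  have hQa'0 : Q a' ≠ 0 := by rw [hQa']; exact hQa0
  have ha' : a' = a + Q a • b - (Q b * Q a) • e := by
    rw [ha'def, hcc, siegel_apply, hea, hba, zero_smul, sub_zero]
  have ha'D : a' ∈ D := by
    rw [ha']; exact D.sub_mem (D.add_mem haD (D.smul_mem _ hbD)) (D.smul_mem _ heD)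
  have hae : polar Q a e = Q a := by rw [polar_comm]; exact hea
  have hpaa : polar Q a a' ≠ 0 := by
    rw [ha', polar_sub_right, polar_add_right, polar_self2, polar_smul_right, polar_smul_right, hab, hae,
      smul_zero, zero_add, zero_sub, neg_ne_zero, smul_eq_mul]
    exact mul_ne_zero (mul_ne_zero hb0 hQa0) hQa0
  have hz : refl Q a' hQa'0 * refl Q a hQa0 = (c : V ≃ₗ[F] V) * X i₀ * (c : V ≃ₗ[F] V)⁻¹ * (X i₀)⁻¹ := by
    rw [← hudef]
    have h1 : u = refl Q a hQa0 * w := by
      rw [hw, ← mul_assoc, refl_mul_self, one_mul]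
    have h2 : refl Q a' hQa'0 = (c : V ≃ₗ[F] V) * refl Q a hQa0 * (c : V ≃ₗ[F] V)⁻¹ := by
      rw [refl_conj (E_le_O c.2) hQa0 (by rw [← ha'def]; exact hQa'0)]
      congr 1
    have h3 : w * (c : V ≃ₗ[F] V)⁻¹ = (c : V ≃ₗ[F] V)⁻¹ * w := by
      rw [eq_inv_mul_iff_mul_eq, ← mul_assoc, hcw, mul_inv_cancel_right]
    rw [h2, h1]
    calc (c : V ≃ₗ[F] V) * refl Q a hQa0 * (c : V ≃ₗ[F] V)⁻¹ * refl Q a hQa0
        = (c : V ≃ₗ[F] V) * refl Q a hQa0 * ((c : V ≃ₗ[F] V)⁻¹ * w) * w⁻¹ * (refl Q a hQa0)⁻¹ := by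
          rw [refl_inv]; group
      _ = (c : V ≃ₗ[F] V) * (refl Q a hQa0 * w) * (c : V ≃ₗ[F] V)⁻¹ * (refl Q a hQa0 * w)⁻¹ := by
          rw [← h3]; group
  obtain ⟨hf, hinv, hfix, hDn0, hD02⟩ := two_refl hQa0 hQa'0 hQa' hpaa
  obtain ⟨D0, hD0⟩ : ∃ D0, D0 = Submodule.span F {a, a'} := ⟨_, rfl⟩
  rw [← hD0] at hf hinv hfix hDn0 hD02
  have hD0D : D0 ≤ D := by
    rw [hD0, Submodule.span_le]
    rintro y (rfl | rfl)
    · exact haD
    · exact ha'D
  have hn0 := finrank_pp hQ D0
  have hn1 := finrank_pp hQ D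
  -- (MV)
  obtain ⟨k, ℓ, x', M', hℓ, hzk, hFC⟩ := h.mv i₀ c
    (fun j hj => siegel_comm he heb (h.iso j) (hDX j hj e heD) (hDX j hj b hbD)) _ hz D0
    (by rintro h0; rw [h0, finrank_bot] at hD02; omega) hinv hf (by
      have : pp Q D0 ≠ ⊥ := by
        intro h0
        rw [h0, finrank_bot] at hn0
        omega
      obtain ⟨y, hy, hy0⟩ := (pp Q D0).ne_bot_iff.1 this
      exact ⟨y, hy0, hfix y hy⟩)
  obtain ⟨z, hzdef⟩ : ∃ z, z = refl Q a' hQa'0 * refl Q a hQa0 := ⟨_, rfl⟩
  rw [← hzdef] at hfix hzk hFC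
  have hupd : ∀ i, i ≠ i₀ → Function.update X i₀ (z ^ k) i = X i := fun i hi => Function.update_of_ne hi _ _
  have hupr : ∀ i, i ≠ i₀ → Function.update r i₀ ℓ i = r i := fun i hi => Function.update_of_ne hi _ _
  have hnt0 : ¬ Nt (Function.update X i₀ (z ^ k) i₀) (pp Q D0) := by
    rw [Function.update_self, not_Nt]
    intro y hy
    exact pow_apply_of (hfix y hy) k
  have hD0X : ∀ j, j ≠ i₀ → ∀ y ∈ D0, X j y = y := fun j hj y hy => hDX j hj y (hD0D hy)
  refine hFC.box_A (pp Q D0) (nondeg_pp hQ hDn0) (by omega) ?_ ?_ ?_ ?_ ?_ ?_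
  · intro h0
    rw [h0, finrank_top] at hn0
    omega
  · intro i
    by_cases hi : i = i₀
    · subst hi
      intro y hy
      rw [not_Nt] at hnt0
      rw [hnt0 y hy]; exact hy
    · rw [hupd i hi]
      exact inv_pp (h.iso i) (fun y hy => by rw [hD0X i hi y hy]; exact hy)
  · obtain ⟨j, hj⟩ := h.other i₀
    refine ⟨j, ?_⟩
    rw [hupd j hj]
    exact h.nt_pp hDn0 (not_Nt.2 (hD0X j hj))
  · intro i j hi hj hij
    have hi0 : i ≠ i₀ := by rintro rfl; exact hnt0 hi
    have hj0 : j ≠ i₀ := by rintro rfl; exact hnt0 hj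
    rw [hupr i hi0, hupr j hj0] at hij
    exact hinj hij
  · intro i hi
    exfalso
    by_cases hi0 : i = i₀
    · subst hi0
      rw [Function.update_self] at hi
      exact hℓ hi
    · rw [hupr i hi0, ← h2] at hi
      exact hi0 (hinj hi)
  · by_cases hF : Nat.card F = 2 ∧ Module.finrank F (pp Q D0) = 6
    · right
      intro i j hi hj
      have hi0 : i ≠ i₀ := by rintro rfl; exact hnt0 hi
      have hj0 : j ≠ i₀ := by rintro rfl; exact hnt0 hj
      by_contra hij
      refine no_four hF.1 (nondeg_pp hQ hDn) (by omega) (h.iso i) (h.iso j) (h.cv.commX i j)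
        (inv_pp (h.iso i) fun y hy => by rw [hDX i hi0 y hy]; exact hy)
        (inv_pp (h.iso j) fun y hy => by rw [hDX j hj0 y hy]; exact hy) (h.cv.prime i) (h.cv.prime j)
        (fun h3 => hi0 (hinj (h3.trans h2.symm))) (fun h3 => hj0 (hinj (h3.trans h2.symm)))
        (fun h3 => hij (hinj h3)) (h.pow_one i) (h.pow_one j) ?_ ?_
      · exact h.nt_pp hDn (not_Nt.2 (hDX i hi0))
      · exact h.nt_pp hDn (not_Nt.2 (hDX j hj0))
    · left
      rintro ⟨h3, h4', -⟩
      exact hF ⟨h3, h4'⟩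

/-- **case (II)**: `u` is trivial on all `[V, X j]` -/
theorem FC.caseII (h : FC Q Ω N ρ x M X r) (hinj : Function.Injective r) (i₀ : ι) (h2 : r i₀ = 2)
    (h8 : 8 ≤ Module.finrank F V) (hu1 : ∀ j, j ≠ i₀ → ¬ Nt (X i₀) (Cm (X j)))
    (hrefl : ∀ (a : V) (ha : Q a ≠ 0), X i₀ = refl Q a ha → False) : False := by
  classical
  have hQ := h.nondeg
  have hu := h.inv2 h2
  obtain ⟨s, m, hs, hm, hsm, hsX, hsf⟩ := h.exists_s hinj i₀ h2
  have hus : ¬ Nt (X i₀) (Cm s) := h.u_Cm_s hs hsf hu1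
  have hDn : Nondeg (Q.comp (Cf s).subtype) := nondeg_Cf hQ hs hm hsm
  have hpp : pp Q (Cf s) = Cm s := pp_Cf hQ hs
  have hDu : ∀ v ∈ Cf s, X i₀ v ∈ Cf s := Cf_inv (hsX i₀)
  have hDX : ∀ j, j ≠ i₀ → ∀ v ∈ Cf s, X j v = v := fun j hj v hv => (hsf v).1 (mem_Cf.1 hv) j hj
  have hnt : Nt (X i₀) (Cf s) := by
    by_contra h1
    have h3 := h.nt_pp hDn h1
    rw [hpp] at h3
    exact hus h3
  have hne : Cf s ≠ ⊤ := by
    intro h0
    obtain ⟨j, hj⟩ := h.other i₀
    apply h.X_ne j
    ext v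
    exact hDX j hj v (h0 ▸ Submodule.mem_top)
  have hev := even_nd hDn
  have hinv : ∀ i, ∀ v ∈ Cf s, X i v ∈ Cf s := fun i => Cf_inv (hsX i)
  have hodd : ∀ i, i ≠ i₀ → r i ≠ 2 := fun i hi h3 => hi (hinj (h3.trans h2.symm))
  have h0 : Cf s ≠ ⊥ := by
    rintro h0
    obtain ⟨v, hv, hv1⟩ := hnt
    rw [h0, Submodule.mem_bot] at hv
    exact hv1 (by rw [hv, map_zero])
  have hpos : 0 < Module.finrank F (Cf s) := by
    rw [Nat.pos_iff_ne_zero]
    intro h1
    exact h0 (Submodule.finrank_eq_zero.1 h1)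
  have huniq : ∀ i, Nt (X i) (Cf s) → i = i₀ := by
    intro i hi
    by_contra hi0
    exact (not_Nt.2 (hDX i hi0)) hi
  by_cases h5 : 5 ≤ Module.finrank F (Cf s)
  · refine h.box_A (Cf s) hDn h5 hne hinv ⟨i₀, hnt⟩ ?_ ?_ (Or.inr ?_)
    · intro i j hi hj _
      rw [huniq i hi, huniq j hj]
    · intro i hi
      rw [hinj (hi.trans h2.symm)]
      exact hnt
    · intro i j hi hj
      rw [huniq i hi, huniq j hj]
  · by_cases h4 : Module.finrank F (Cf s) = 4
    · by_cases hex : ∃ v ∈ Cf s, polar Q (X i₀ v) v ≠ 0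
      · exact h.rot hinj i₀ h2 h8 hDn h4 hDu hDX hex
      · push Not at hex
        obtain ⟨y1, m1, y2, m2, x1, m3, x2, m4, hq⟩ := exists_Q4 hu hDn hDu hex hnt
        have hx0 : x1 ≠ 0 := by
          rintro rfl
          have := hq.b11
          rw [polar_zero_left] at this
          exact zero_ne_one this
        refine h.no_long i₀ hodd hq.qx1 hq.qx2 hq.xx hx0 ?_ ?_ ?_
        · rintro t ht
          have := hq.b22
          rw [ht, polar_smul_left, hq.b12, smul_zero] at this
          exact zero_ne_one this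
        · intro v
          have hsl : ∀ v, siegel Q x1 x2 hq.qx1 hq.xx v = v + polar Q x1 v • x2 + polar Q x2 v • x1 := by
            intro v
            rw [siegel_apply, hq.qx2, zero_mul, zero_smul, sub_zero, vsub_eq (F := F)]
          obtain ⟨v1, hv1, v2, hv2, rfl⟩ := exists_dec hQ hDn v
          rw [map_add, map_add]
          congr 1
          · obtain ⟨α, β, γ, δ, rfl⟩ := hq.span h4 m1 m2 m3 m4 hv1
            rw [hsl]
            simp only [map_add, map_smul, hq.u1, hq.u2, hq.ux1, hq.ux2, polar_add_right, polar_smul_right, hq.b11,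
              hq.b12, hq.b21, hq.b22, hq.xx, hq.xx', polar_self_of_sing hq.qx1, polar_self_of_sing hq.qx2, smul_eq_mul,
              mul_one, mul_zero, add_zero, zero_add]
            module
          · rw [hsl, hv2 x1 m3, hv2 x2 m4, zero_smul, zero_smul, add_zero, add_zero]
            rw [hpp] at hv2
            exact (not_Nt.1 hus) v2 hv2
        · intro i hi v hv
          have hsub : Submodule.span F {x1, x2} ≤ Cf s := by
            rw [Submodule.span_le]
            rintro y (rfl | rfl)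
            · exact m3
            · exact m4
          rw [hDX i hi v (hsub hv)]
          exact hv
    · have h2' : Module.finrank F (Cf s) = 2 := by
        obtain ⟨k, hk⟩ := hev
        omega
      -- a reflection
      have hex : ∃ v ∈ Cf s, polar Q (X i₀ v) v ≠ 0 := by
        by_contra hno
        push Not at hno
        have h1 := hu.even_Xs hDn hDu hno
        have h3 := hu.two_Xs hQ hDn hDu
        have h6 : Module.finrank F (Xs (X i₀) (Cf s)) = 0 := by
          obtain ⟨k, hk⟩ := h1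
          omega
        rw [Submodule.finrank_eq_zero, Xs_eq_bot] at h6
        exact (not_Nt.2 h6) hnt
      obtain ⟨v, hv, hv1⟩ := hex
      obtain ⟨a, hadef⟩ : ∃ a, a = X i₀ v - v := ⟨_, rfl⟩
      have haD : a ∈ Cf s := by rw [hadef]; exact (Cf s).sub_mem (hDu v hv) hv
      have hQa : Q a = polar Q (X i₀ v) v := by rw [hadef, hu.Q_dl]
      have hQa0 : Q a ≠ 0 := by rw [hQa]; exact hv1
      have hua : X i₀ a = a := by rw [hadef]; exact hu.dl_dl v
      have huv : X i₀ v = v + a := by rw [hadef]; abel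
      have hav : polar Q a v = Q a := by rw [hQa, hadef, polar_sub_left, polar_self2, sub_zero]
      have hva0 : polar Q v a ≠ 0 := by rw [polar_comm, hav]; exact hQa0
      obtain ⟨hPn, hP2⟩ := nd_pair hva0
      have hPD : Submodule.span F {v, a} ≤ Cf s := by
        rw [Submodule.span_le]
        rintro w (rfl | rfl)
        · exact hv
        · exact haD
      have hPeq : Submodule.span F {v, a} = Cf s := Submodule.eq_of_le_of_finrank_eq hPD (by rw [hP2, h2'])
      apply hrefl a hQa0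
      apply ext_dec hQ hDn
      · intro w hw
        rw [← hPeq] at hw
        obtain ⟨α, β, rfl⟩ := Submodule.mem_span_pair.1 hw
        have hraa : refl Q a hQa0 a = a := by rw [refl_apply, polar_self2, mul_zero, zero_smul, sub_zero]
        have hrav : refl Q a hQa0 v = v + a := by
          rw [refl_apply, hav, inv_mul_cancel₀ hQa0, one_smul, vsub_eq (F := F)]
        rw [map_add, map_add, map_smul, map_smul, map_smul, map_smul, huv, hua, hraa, hrav]
      · intro w hw
        rw [refl_apply, hw a haD, mul_zero, zero_smul, sub_zero]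
        rw [hpp] at hw
        exact (not_Nt.1 hus) w hw

end Cfsg.Agent.H578.RC
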